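import Cfsg.Agent.Mrg.Omega.Node.NO1
import Cfsg.Agent.Mrg.Omega.Half.Blocks
import Cfsg.Agent.Mrg.Omega.FrameI

section


/-!
# THEOREM WRF (bb OMEGA #16078), step (4): `|O| = 1` is impossible

`V = ⊕ Vf i`, permuted transitively by `P`, `W` a 2-subgroup of `P` which acts nontrivially on `V` and
centralises all `Vf j`, `j ≠ i₀`; these and `V ∩ Z` lie in `FF`: then `V ≤ O₂(C_G(FF))` (`single_fam`).
-/

set_option autoImplicit false
set_option linter.unusedSectionVars false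

namespace Cfsg.Agent.Omega.NO1.WRF.Single

open Subgroup Cfsg Cfsg.Agent.ZN Cfsg.Agent.ZN.ChoiceBase Cfsg.Agent.Omega.MinPar Cfsg.Agent.Omega.Frame
open Cfsg.Agent.Omega.NO1

universe u

variable {G : Type u} [Group G]

/-! ### Sums of a family of subgroups of an abelian group -/

theorem exists_mul_of_mem_sup {V A B : Subgroup G} (hVc : V ≤ centralizer (V : Set G)) (hA : A ≤ V) (hB : B ≤ V)
    {x : G} (hx : x ∈ A ⊔ B) : ∃ a ∈ A, ∃ b ∈ B, a * b = x := by
  have hAB : A ≤ normalizer (B : Set G) :=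
    (hA.trans (hVc.trans (centralizer_le hB))).trans (centralizer_le_normalizer _)
  have h1 : x ∈ ((A ⊔ B : Subgroup G) : Set G) := hx
  rw [coe_mul_of_left_le_normalizer_right _ _ hAB] at h1
  exact h1

variable {ι : Type*}

/-- the sum over `I` -/
def Vs (Vf : ι → Subgroup G) (I : Set ι) : Subgroup G := ⨆ i ∈ I, Vf i

variable {Vf : ι → Subgroup G}

theorem le_Vs {I : Set ι} {i : ι} (hi : i ∈ I) : Vf i ≤ Vs Vf I := le_biSup Vf hi

theorem Vs_le {I : Set ι} {X : Subgroup G} (h : ∀ i ∈ I, Vf i ≤ X) : Vs Vf I ≤ X := iSup₂_le h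

theorem Vs_insert (i : ι) (I : Set ι) : Vs Vf (insert i I) = Vf i ⊔ Vs Vf I := by
  rw [Vs, iSup_insert, Vs]

/-- the sums over disjoint sets are disjoint -/
theorem Vs_inf_Vs [Finite ι] {V : Subgroup G} (hVc : V ≤ centralizer (V : Set G)) (hle : ∀ i, Vf i ≤ V)
    (hind : iSupIndep Vf) {I J : Set ι} (h : Disjoint I J) : Vs Vf I ⊓ Vs Vf J = ⊥ := by
  have key : ∀ I : Set ι, I.Finite → ∀ J : Set ι, Disjoint I J → Vs Vf I ⊓ Vs Vf J = ⊥ := by
    intro I hI
    induction I, hI using Set.Finite.induction_on with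
    | empty =>
      intro J _
      rw [eq_bot_iff]
      refine inf_le_left.trans (Vs_le fun i hi => absurd hi (Set.notMem_empty i))
    | @insert i I hi _ ih =>
      intro J hJ
      rw [Set.disjoint_insert_left] at hJ
      rw [eq_bot_iff]
      rintro x ⟨hx1, hx2⟩
      rw [Vs_insert] at hx1
      obtain ⟨v, hv, y, hy, rfl⟩ := exists_mul_of_mem_sup hVc (hle i) (Vs_le fun j _ => hle j) hx1
      have h1 : v ∈ ⨆ (j) (_ : j ≠ i), Vf j := by
        have e : v = v * y * y⁻¹ := by group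
        rw [e]
        have hle1 : ∀ K : Set ι, i ∉ K → Vs Vf K ≤ ⨆ (j) (_ : j ≠ i), Vf j := by
          intro K hK
          refine Vs_le fun j hj => ?_
          exact le_biSup Vf (show j ≠ i from fun h => hK (h ▸ hj))
        exact mul_mem (hle1 J hJ.1 hx2) (inv_mem (hle1 I hi hy))
      have h2 : v = 1 := mem_bot.mp ((hind i).le_bot ⟨hv, h1⟩)
      subst h2
      have h3 := ih J hJ.2
      rw [one_mul] at hx2 ⊢
      rw [← h3]
      exact ⟨hy, hx2⟩
  exact key I (Set.toFinite I) J h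

theorem Vs_sup_Vs {V : Subgroup G} (hsup : ⨆ i, Vf i = V) {I J : Set ι} (h : ∀ i, i ∈ I ∨ i ∈ J) :
    Vs Vf I ⊔ Vs Vf J = V := by
  rw [← hsup]
  refine le_antisymm (sup_le (Vs_le fun i _ => le_iSup Vf i) (Vs_le fun i _ => le_iSup Vf i)) (iSup_le fun i => ?_)
  rcases h i with h | h
  · exact (le_Vs h).trans le_sup_left
  · exact (le_Vs h).trans le_sup_right

theorem cj_Vs_le {I J : Set ι} {x : G} (h : ∀ i ∈ I, ∃ j ∈ J, cj x (Vf i) = Vf j) : cj x (Vs Vf I) ≤ Vs Vf J := by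
  rw [cj, Subgroup.map_le_iff_le_comap]
  refine Vs_le fun i hi => ?_
  rw [← Subgroup.map_le_iff_le_comap]
  obtain ⟨j, hj, e⟩ := h i hi
  exact e.le.trans (le_Vs hj)

variable [Finite G]

/-- **(4)** : `|O| = 1` is impossible. -/
theorem single_fam [Finite ι] [Nontrivial ι] {S : Sylow 2 G} {P V W FF : Subgroup G} (h : Sit S P V)
    (hind : iSupIndep Vf) (hsup : ⨆ i, Vf i = V)
    (hperm : ∀ p ∈ P, ∀ i, ∃ j, cj p (Vf i) = Vf j) (htr : ∀ i j, ∃ p ∈ P, cj p (Vf i) = Vf j)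
    (hWP : W ≤ P) (hW2 : IsPGroup 2 W) (hWV : ¬ W ≤ centralizer (V : Set G)) {i₀ : ι}
    (hWj : ∀ j, j ≠ i₀ → W ≤ centralizer (Vf j : Set G))
    (hFV : V ≤ centralizer (FF : Set G)) (hFc : FF ≤ centralizer (FF : Set G))
    (hF2 : IsPGroup 2 FF) (hVF : ∀ j, j ≠ i₀ → Vf j ≤ FF) (hZF : V ⊓ zc (S : Subgroup G) ≤ FF) :
    V ≤ o2 (centralizer (FF : Set G)) := by
  classical
  have hle : ∀ i, Vf i ≤ V := fun i => hsup ▸ le_iSup Vf i
  -- no `Vf i` is trivial
  have hne0 : Vf i₀ ≠ ⊥ := by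
    intro h0
    apply hWV
    rw [← hsup]
    intro w hw
    have : ⨆ i, Vf i ≤ centralizer ({w} : Set G) := by
      refine iSup_le fun i => ?_
      by_cases hi : i = i₀
      · subst hi; rw [h0]; exact bot_le
      · intro v hv
        rw [mem_centralizer_singleton_iff]
        exact (mem_centralizer_iff.mp (hWj i hi hw) v hv)
    rw [mem_centralizer_iff]
    intro v hv
    exact (mem_centralizer_singleton_iff.mp (this hv))
  have hne : ∀ i, Vf i ≠ ⊥ := by
    intro i hi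
    obtain ⟨p, -, hp⟩ := htr i i₀
    apply hne0
    rw [← hp, hi, cj, Subgroup.map_bot]
  have hinj : Function.Injective Vf := hind.injective hne
  -- the action on the indices
  have hcjm : ∀ (p q : G) (i j k : ι), cj p (Vf i) = Vf j → cj q (Vf j) = Vf k → cj (q * p) (Vf i) = Vf k := by
    intro p q i j k h1 h2
    rw [← cj_cj, h1, h2]
  have hcji : ∀ (p : G) (i j : ι), cj p (Vf i) = Vf j → cj p⁻¹ (Vf j) = Vf i := by
    intro p i j h1
    rw [← h1, cj_cj, inv_mul_cancel, cj_one]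
  -- `K`
  set K : Subgroup G := (⨆ p ∈ P, cj p W) ⊔ (P ⊓ centralizer (V : Set G)) with hK
  have hKP : K ≤ P := by
    refine sup_le (iSup₂_le fun p hp => ?_) inf_le_left
    rintro _ ⟨w, hw, rfl⟩
    exact mul_mem (mul_mem hp (hWP hw)) (inv_mem hp)
  have hPK : P ≤ normalizer (K : Set G) := by
    intro x hx
    refine mem_normalizer_of_cj_le ?_
    rw [hK, cj, Subgroup.map_sup]
    refine sup_le ?_ ?_
    · rw [Subgroup.map_le_iff_le_comap]
      refine le_trans ?_ (Subgroup.comap_mono (le_sup_left :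
        (⨆ p ∈ P, cj p W) ≤ (⨆ p ∈ P, cj p W) ⊔ (P ⊓ centralizer (V : Set G))))
      refine iSup₂_le fun p hp => ?_
      rw [← Subgroup.map_le_iff_le_comap]
      change cj x (cj p W) ≤ _
      rw [cj_cj]
      exact le_biSup (fun p => cj p W) (mul_mem hx hp)
    · refine le_trans ?_ le_sup_right
      change cj x _ ≤ _
      rw [cj_inf, cj_eq_of_mem_normalizer (le_normalizer hx), cj_centralizer,
        cj_eq_of_mem_normalizer (h.norm hx)]
  -- `W` fixes `i₀`
  have hcen : ∀ {w : G} {i : ι}, w ∈ centralizer (Vf i : Set G) → cj w (Vf i) = Vf i := fun hw =>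
    cj_eq_of_mem_normalizer (centralizer_le_normalizer _ hw)
  have hWi : ∀ w ∈ W, ∀ i, cj w (Vf i) = Vf i := by
    intro w hw i
    by_cases hi : i = i₀
    · subst hi
      obtain ⟨j, hj⟩ := hperm w (hWP hw) i
      by_cases hji : j = i
      · rw [hj, hji]
      · exfalso
        have h1 := hcji w i j hj
        have h2 := hcen (inv_mem (hWj j hji hw))
        rw [h1] at h2
        exact hji (hinj h2).symm
    · exact hcen (hWj i hi hw)
  -- the conjugates of `W`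
  have hWp : ∀ p ∈ P, ∃ i₁, cj p (Vf i₀) = Vf i₁ ∧ ∀ j, j ≠ i₁ → cj p W ≤ centralizer (Vf j : Set G) := by
    intro p hp
    obtain ⟨i₁, hi₁⟩ := hperm p hp i₀
    refine ⟨i₁, hi₁, fun j hj => ?_⟩
    obtain ⟨i, hi⟩ := hperm p⁻¹ (inv_mem hp) j
    have h1 : cj p (Vf i) = Vf j := by
      have := hcji p⁻¹ j i hi
      rwa [inv_inv] at this
    have h2 : i ≠ i₀ := by
      rintro rfl
      rw [hi₁] at h1
      exact hj (hinj h1).symm
    rw [← h1, ← cj_centralizer]
    exact cj_mono p (hWj i h2)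
  have hKi : ∀ k ∈ K, ∀ i, cj k (Vf i) = Vf i := by
    have h1 : K ≤ ⨅ i, normalizer (Vf i : Set G) := by
      refine sup_le (iSup₂_le fun p hp => le_iInf fun i => ?_) (le_iInf fun i => ?_)
      · rintro _ ⟨w, hw, rfl⟩
        change p * w * p⁻¹ ∈ _
        refine mem_normalizer_of_cj_le ?_
        obtain ⟨j, hj⟩ := hperm p⁻¹ (inv_mem hp) i
        rw [← cj_cj, hj, ← cj_cj, hWi w hw j]
        have := hcji p⁻¹ i j hj
        rw [inv_inv] at this
        exact this.le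
      · exact (inf_le_right.trans (centralizer_le (hle i))).trans (centralizer_le_normalizer _)
    intro k hk i
    exact cj_eq_of_mem_normalizer ((mem_iInf.mp (h1 hk)) i)
  -- `P = K S`
  have hKS : K ⊔ (S : Subgroup G) = P := by
    rcases h.par.sup_eq_or_inf_le S hKP hPK with h1 | h1
    · exact h1
    · exfalso
      have hS : ChoiceSit.Syl (S : Subgroup G) P := ⟨h.par.le, S.isPGroup', fun R _ hR hSR => S.is_maximal' hR hSR⟩
      obtain ⟨R, hR, hWR⟩ := ChoiceSit.exists_syl hW2 hWP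
      obtain ⟨p, hp, hpR⟩ := ChoiceSit.syl_conj hR hS
      have h2 : cj p W ≤ (S : Subgroup G) ⊓ K := by
        refine le_inf ?_ ?_
        · rw [← hpR]; exact cj_mono p hWR
        · exact (le_biSup (fun p => cj p W) hp).trans le_sup_left
      have h3 : cj p W ≤ centralizer (V : Set G) := by
        exact (h2.trans h1).trans h.o2_le
      apply hWV
      have h4 := cj_mono p⁻¹ h3
      rw [cj_cj, inv_mul_cancel, cj_one, cj_centralizer,
        cj_eq_of_mem_normalizer (inv_mem (h.norm hp))] at h4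
      exact h4
  have hdec : ∀ p ∈ P, ∃ k ∈ K, ∃ s ∈ (S : Subgroup G), k * s = p := by
    intro p hp
    have h1 : p ∈ (((S : Subgroup G) ⊔ K : Subgroup G) : Set G) := by
      rw [sup_comm, hKS]; exact hp
    rw [coe_mul_of_left_le_normalizer_right _ _ (h.par.le.trans hPK)] at h1
    obtain ⟨s, hs, k, hk, rfl⟩ := h1
    refine ⟨s * k * s⁻¹, (mem_normalizer_iff.mp (hPK (h.par.le hs)) k).mp hk, s, hs, ?_⟩
    change s * k * s⁻¹ * s = s * k
    group
  -- `S` is transitive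
  have hStr : ∀ i j, ∃ s ∈ (S : Subgroup G), cj s (Vf i) = Vf j := by
    intro i j
    obtain ⟨p, hp, hpij⟩ := htr i j
    obtain ⟨k, hk, s, hs, rfl⟩ := hdec p hp
    refine ⟨s, hs, ?_⟩
    obtain ⟨m, hm⟩ := hperm s (h.par.le hs) i
    rw [← cj_cj, hm, hKi k hk m] at hpij
    rw [hm, hpij]
  -- `So`
  obtain ⟨So, hSo1, hSoS, hidx⟩ := Half.exists_index_two (T := (S : Subgroup G))
    (A := (S : Subgroup G) ⊓ normalizer (Vf i₀ : Set G)) S.isPGroup' inf_le_left (by
      intro h1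
      obtain ⟨i₁, hi₁⟩ := exists_ne i₀
      obtain ⟨s, hs, hsi⟩ := hStr i₀ i₁
      have h2 := cj_eq_of_mem_normalizer (h1 hs).2
      rw [h2] at hsi
      exact hi₁ (hinj hsi).symm)
  set J₂ : Set ι := {i | ∃ s ∈ So, cj s (Vf i₀) = Vf i} with hJ₂
  set J₁ : Set ι := {i | ∃ s ∈ (S : Subgroup G), s ∉ So ∧ cj s (Vf i₀) = Vf i} with hJ₁
  have hcov : ∀ i, i ∈ J₁ ∨ i ∈ J₂ := by
    intro i
    obtain ⟨s, hs, hsi⟩ := hStr i₀ i
    by_cases hso : s ∈ So
    · exact Or.inr ⟨s, hso, hsi⟩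
    · exact Or.inl ⟨s, hs, hso, hsi⟩
  have hdisj : Disjoint J₁ J₂ := by
    rw [Set.disjoint_left]
    rintro i ⟨s, hs, hso, hsi⟩ ⟨t, ht, hti⟩
    apply hso
    have h1 : t⁻¹ * s ∈ So := by
      refine hSo1 ⟨Subgroup.mul_mem _ (Subgroup.inv_mem _ (hSoS ht)) hs, ?_⟩
      refine mem_normalizer_of_cj_le ?_
      rw [← cj_cj, hsi, hcji t _ _ hti]
    have e : s = t * (t⁻¹ * s) := by group
    rw [e]
    exact So.mul_mem ht h1
  have hi₀ : i₀ ∈ J₂ := ⟨1, one_mem _, cj_one _⟩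
  have hi₁ : i₀ ∉ J₁ := fun h1 => Set.disjoint_left.mp hdisj h1 hi₀
  -- the moves
  have mSoJ₂ : ∀ s ∈ So, ∀ i ∈ J₂, ∃ j ∈ J₂, cj s (Vf i) = Vf j := by
    rintro s hs i ⟨t, ht, hti⟩
    obtain ⟨j, hj⟩ := hperm s (h.par.le (hSoS hs)) i
    exact ⟨j, ⟨s * t, mul_mem hs ht, hcjm _ _ _ _ _ hti hj⟩, hj⟩
  have mSoJ₁ : ∀ s ∈ So, ∀ i ∈ J₁, ∃ j ∈ J₁, cj s (Vf i) = Vf j := by
    rintro s hs i ⟨t, ht, hto, hti⟩
    obtain ⟨j, hj⟩ := hperm s (h.par.le (hSoS hs)) i
    refine ⟨j, ⟨s * t, mul_mem (hSoS hs) ht, ?_, hcjm _ _ _ _ _ hti hj⟩, hj⟩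
    intro h1
    exact hto ((mul_mem_cancel_left hs).mp h1)
  have mSJ₂ : ∀ s ∈ (S : Subgroup G), s ∉ So → ∀ i ∈ J₂, ∃ j ∈ J₁, cj s (Vf i) = Vf j := by
    rintro s hs hso i ⟨t, ht, hti⟩
    obtain ⟨j, hj⟩ := hperm s (h.par.le hs) i
    refine ⟨j, ⟨s * t, mul_mem hs (hSoS ht), ?_, hcjm _ _ _ _ _ hti hj⟩, hj⟩
    intro h1
    exact hso ((mul_mem_cancel_right ht).mp h1)
  have mSJ₁ : ∀ s ∈ (S : Subgroup G), s ∉ So → ∀ i ∈ J₁, ∃ j ∈ J₂, cj s (Vf i) = Vf j := by
    rintro s hs hso i ⟨t, ht, hto, hti⟩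
    obtain ⟨j, hj⟩ := hperm s (h.par.le hs) i
    refine ⟨j, ⟨s * t, ?_, hcjm _ _ _ _ _ hti hj⟩, hj⟩
    exact (Half.mul_mem_of_index_two hidx hs ht).mpr (iff_of_false hso hto)
  set A : Subgroup G := Vs Vf J₁ with hA
  set B : Subgroup G := Vs Vf J₂ with hB
  have hAB : A ⊓ B = ⊥ := Vs_inf_Vs h.comm hle hind hdisj
  have hABs : A ⊔ B = V := Vs_sup_Vs hsup hcov
  have hAV : A ≤ V := hABs ▸ le_sup_left
  have hBV : B ≤ V := hABs ▸ le_sup_right
  have hSoA : So ≤ normalizer (A : Set G) := fun s hs => mem_normalizer_of_cj_le (cj_Vs_le (mSoJ₁ s hs))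
  have hSoB : So ≤ normalizer (B : Set G) := fun s hs => mem_normalizer_of_cj_le (cj_Vs_le (mSoJ₂ s hs))
  have hKA : K ≤ normalizer (A : Set G) := fun k hk =>
    mem_normalizer_of_cj_le (cj_Vs_le fun i hi => ⟨i, hi, hKi k hk i⟩)
  have hKB : K ≤ normalizer (B : Set G) := fun k hk =>
    mem_normalizer_of_cj_le (cj_Vs_le fun i hi => ⟨i, hi, hKi k hk i⟩)
  have hsw : ∀ s ∈ (S : Subgroup G), s ∉ So → cj s A = B ∧ cj s B = A := by
    intro s hs hso
    have hso' : s⁻¹ ∉ So := fun h1 => hso (by simpa using inv_mem h1)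
    have h1 : cj s A ≤ B := cj_Vs_le (mSJ₁ s hs hso)
    have h2 : cj s B ≤ A := cj_Vs_le (mSJ₂ s hs hso)
    have h3 : cj s⁻¹ A ≤ B := cj_Vs_le (mSJ₁ _ (inv_mem hs) hso')
    have h4 : cj s⁻¹ B ≤ A := cj_Vs_le (mSJ₂ _ (inv_mem hs) hso')
    refine ⟨le_antisymm h1 ?_, le_antisymm h2 ?_⟩
    · have := cj_mono s h4
      rwa [cj_cj_inv] at this
    · have := cj_mono s h3
      rwa [cj_cj_inv] at this
  have hAne : A ≠ ⊥ := by
    intro h1
    obtain ⟨i₁, hi⟩ := exists_ne i₀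
    -- `J₁` is not empty
    obtain ⟨s, hs, hso⟩ : ∃ s ∈ (S : Subgroup G), s ∉ So := by
      by_contra hcon
      push Not at hcon
      have : So.relIndex (S : Subgroup G) = 1 := relIndex_eq_one.mpr hcon
      omega
    obtain ⟨j, hj, -⟩ := mSJ₂ s hs hso i₀ hi₀
    exact hne j (le_bot_iff.mp (h1 ▸ le_Vs hj))
  have hABne : A ≠ B := by
    intro h1
    rw [← h1, inf_idem] at hAB
    exact hAne hAB
  have hSA : (S : Subgroup G) ⊓ normalizer (A : Set G) ≤ So := by
    rintro s ⟨hs, hsA⟩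
    by_contra hso
    have h1 := (hsw s hs hso).1
    rw [cj_eq_of_mem_normalizer hsA] at h1
    exact hABne h1
  have hSB : (S : Subgroup G) ⊓ normalizer (B : Set G) ≤ So := by
    rintro s ⟨hs, hsB⟩
    by_contra hso
    have h1 := (hsw s hs hso).2
    rw [cj_eq_of_mem_normalizer hsB] at h1
    exact hABne h1.symm
  have hPA : P ⊓ normalizer (A : Set G) ≤ normalizer (B : Set G) := by
    rintro p ⟨hp, hpA⟩
    obtain ⟨k, hk, s, hs, rfl⟩ := hdec p hp
    have h1 : s ∈ normalizer (A : Set G) := by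
      have e : s = k⁻¹ * (k * s) := by group
      rw [e]; exact mul_mem (inv_mem (hKA hk)) hpA
    exact mul_mem (hKB hk) (hSoB (hSA ⟨hs, h1⟩))
  have hPB : P ⊓ normalizer (B : Set G) ≤ normalizer (A : Set G) := by
    rintro p ⟨hp, hpA⟩
    obtain ⟨k, hk, s, hs, rfl⟩ := hdec p hp
    have h1 : s ∈ normalizer (B : Set G) := by
      have e : s = k⁻¹ * (k * s) := by group
      rw [e]; exact mul_mem (inv_mem (hKB hk)) hpA
    exact mul_mem (hKA hk) (hSoA (hSB ⟨hs, h1⟩))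
  have hPair : Pair S P V A B So := by
    refine ⟨hABs, hAB, hSoS, hidx, hSoA, hSoB, ?_, ?_, hSA, ?_, ?_⟩
    · by_contra hcon
      push Not at hcon
      have : So.relIndex (S : Subgroup G) = 1 := by
        refine relIndex_eq_one.mpr fun s hs => ?_
        by_contra hso
        exact hcon s hs (hsw s hs hso).1 (hsw s hs hso).2
      omega
    · intro p hp
      refine mem_normalizer_of_cj_le ?_
      obtain ⟨k, hk, s, hs, rfl⟩ := hdec p hp
      by_cases hso : s ∈ So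
      · rw [cj_inf, cj_eq_of_mem_normalizer (le_normalizer hp)]
        refine inf_le_inf_left _ ?_
        refine (cj_eq_of_mem_normalizer (le_normalizer ?_)).le
        exact mul_mem (hKA hk) (hSoA hso)
      · rw [cj_inf, cj_eq_of_mem_normalizer (le_normalizer hp)]
        refine le_inf inf_le_left ?_
        have h1 : cj (k * s) (normalizer (A : Set G)) = normalizer (B : Set G) := by
          rw [cj_normalizer, ← cj_cj, (hsw s hs hso).1, cj_eq_of_mem_normalizer (hKB hk)]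
        rw [h1]
        exact hPB
    · exact (inf_le_inf_left P (centralizer_le_normalizer _)).trans hPA
    · intro X hXB hDX hpr
      have hXV : X ≤ V := hXB.trans hBV
      -- `K` normalises `A X`
      have hKX : K ≤ normalizer ((A ⊔ X : Subgroup G) : Set G) := by
        refine sup_le (iSup₂_le fun p hp => ?_) ?_
        · obtain ⟨i₁, hi₁, hcen₁⟩ := hWp p hp
          have hpW : cj p W ≤ K := (le_biSup (fun p => cj p W) hp).trans le_sup_left
          intro w hw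
          refine mem_normalizer_of_cj_le ?_
          rw [cj, Subgroup.map_sup]
          refine sup_le_sup (cj_eq_of_mem_normalizer (hKA (hpW hw))).le ?_
          rcases hcov i₁ with h1 | h1
          · -- `w` centralises `B`
            have h2 : w ∈ centralizer (X : Set G) := by
              refine centralizer_le hXB ?_
              rw [mem_centralizer_iff]
              intro b hb
              have h3 : B ≤ centralizer ({w} : Set G) := by
                refine Vs_le fun j hj => ?_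
                intro v hv
                rw [mem_centralizer_singleton_iff]
                exact mem_centralizer_iff.mp (hcen₁ j (fun h => Set.disjoint_left.mp hdisj h1 (h ▸ hj)) hw) v hv
              exact mem_centralizer_singleton_iff.mp (h3 hb)
            exact (cj_eq_of_mem_normalizer (centralizer_le_normalizer _ h2)).le
          · -- `w` centralises `A`
            have h2 : w ∈ centralizer (A : Set G) := by
              rw [mem_centralizer_iff]
              intro a ha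
              have h3 : A ≤ centralizer ({w} : Set G) := by
                refine Vs_le fun j hj => ?_
                intro v hv
                rw [mem_centralizer_singleton_iff]
                exact mem_centralizer_iff.mp (hcen₁ j (fun h => Set.disjoint_left.mp hdisj hj (h ▸ h1)) hw) v hv
              exact mem_centralizer_singleton_iff.mp (h3 ha)
            exact (cj_eq_of_mem_normalizer (hDX ⟨hKP (hpW hw), h2⟩)).le
        · refine (inf_le_right.trans (centralizer_le ?_)).trans (centralizer_le_normalizer _)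
          exact sup_le hAV hXV
      -- `Z ≤ A X`
      have hZX : ∀ z ∈ V, z ∈ zc (S : Subgroup G) → z ∈ A ⊔ X := by
        intro z hzV' hz
        have hzV : z ∈ A ⊔ B := by rw [hABs]; exact hzV'
        obtain ⟨a, ha, b, hb, rfl⟩ := exists_mul_of_mem_sup h.comm hAV hBV hzV
        exact mul_mem_sup ha (hpr a ha b hb hz)
      have hVX : V ≤ A ⊔ X := by
        refine h.gen _ fun p hp z hzV hz => ?_
        obtain ⟨k, hk, s, hs, rfl⟩ := hdec p hp
        have h1 : s * z * s⁻¹ = z := by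
          have h0 := (ChoiceBase.mem_zc.1 hz).2.2 s hs
          calc s * z * s⁻¹ = z * s * s⁻¹ := by rw [h0]
            _ = z := by group
        have e : k * s * z * (k * s)⁻¹ = k * z * k⁻¹ := by
          calc k * s * z * (k * s)⁻¹ = k * (s * z * s⁻¹) * k⁻¹ := by group
            _ = k * z * k⁻¹ := by rw [h1]
        rw [e]
        exact (mem_normalizer_iff.mp (hKX hk) z).mp (hZX z hzV hz)
      intro b hb
      obtain ⟨a, ha, x, hx, e⟩ := exists_mul_of_mem_sup h.comm hAV hXV (hVX (hBV hb))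
      have h1 : a ∈ A ⊓ B := by
        refine ⟨ha, ?_⟩
        have : a = b * x⁻¹ := by rw [← e]; group
        rw [this]
        exact B.mul_mem hb (B.inv_mem (hXB hx))
      rw [hAB, mem_bot] at h1
      rw [h1, one_mul] at e
      rw [← e]; exact hx
  exact single h (fun h0 => hne i₀ (le_bot_iff.mp (h0 ▸ hle i₀))) hPair hFV hFc hF2 (Vs_le fun j hj => hVF j fun h1 => hi₁ (h1 ▸ hj)) hZF

end Cfsg.Agent.Omega.NO1.WRF.Single

end

section


/-!
# THEOREM WRF (bb OMEGA #16078), step (5): `V` is an indecomposable module for `K = ⟨W^P⟩`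

`Dat P V W` : `V` is abelian, normalised by `P ≥ W`; whenever `V = X × Y` with `X`, `Y` normalised by `W`, then `W`
centralises `X` or `Y` (this is step (1) for two summands); `C_V(K) = 1`.

* `Dat.exists_fam` : if `V = X × Y`, both normalised by `K` and nontrivial, then `V = ⊕ Vf i` (`|ι| ≥ 2`) with the
  `Vf i` permuted transitively by `P`, and `W` centralises all but one of them;
* `indec` : with `Sit S P V` and `C_V(W) ≤ FF` : `V ≤ O₂(C_G(FF))`.
-/

set_option autoImplicit false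
set_option linter.unusedSectionVars false

namespace Cfsg.Agent.Omega.NO1.WRF.Indec

open Subgroup Cfsg Cfsg.Agent.ZN Cfsg.Agent.ZN.ChoiceBase Cfsg.Agent.Omega.MinPar Cfsg.Agent.Omega.Frame
open Cfsg.Agent.Omega.NO1 Cfsg.Agent.Omega.NO1.WRF.Single

universe u

variable {G : Type u} [Group G]

/-- `⟨W^P⟩` -/
def KW (P W : Subgroup G) : Subgroup G := ⨆ p ∈ P, cj p W

variable {P V W X Y X' Y' : Subgroup G}

theorem cj_le_KW {p : G} (hp : p ∈ P) : cj p W ≤ KW P W := le_biSup (fun p => cj p W) hp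

theorem KW_le {X : Subgroup G} (h : ∀ p ∈ P, cj p W ≤ X) : KW P W ≤ X := iSup₂_le h

theorem le_KW : W ≤ KW P W := by
  have h := cj_le_KW (P := P) (W := W) (one_mem P)
  rwa [cj_one] at h

theorem cj_bot (p : G) : cj p (⊥ : Subgroup G) = ⊥ := Subgroup.map_bot _

theorem cj_KW {p : G} (hp : p ∈ P) : cj p (KW P W) ≤ KW P W := by
  rw [KW, cj, Subgroup.map_iSup]
  refine iSup_le fun q => ?_
  rw [Subgroup.map_iSup]
  refine iSup_le fun hq => ?_
  change cj p (cj q W) ≤ _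
  rw [cj_cj]
  exact cj_le_KW (mul_mem hp hq)

theorem cj_KW_eq {p : G} (hp : p ∈ P) : cj p (KW P W) = KW P W := by
  refine le_antisymm (cj_KW hp) ?_
  have h := cj_mono p (cj_KW (W := W) (inv_mem hp))
  rwa [cj_cj_inv] at h

/-- `V = X × Y`, both normalised by `K`. -/
structure Dec (K V X Y : Subgroup G) : Prop where
  sup : X ⊔ Y = V
  inf : X ⊓ Y = ⊥
  nX : K ≤ normalizer (X : Set G)
  nY : K ≤ normalizer (Y : Set G)

namespace Dec

variable {K : Subgroup G}

theorem symm (d : Dec K V X Y) : Dec K V Y X :=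
  ⟨by rw [sup_comm]; exact d.sup, by rw [inf_comm]; exact d.inf, d.nY, d.nX⟩

theorem X_le (d : Dec K V X Y) : X ≤ V := d.sup ▸ le_sup_left
theorem Y_le (d : Dec K V X Y) : Y ≤ V := d.sup ▸ le_sup_right

theorem mono {K' : Subgroup G} (d : Dec K V X Y) (h : K' ≤ K) : Dec K' V X Y :=
  ⟨d.sup, d.inf, h.trans d.nX, h.trans d.nY⟩

theorem uniq (d : Dec K V X Y) {x x' y y' : G} (hx : x ∈ X) (hx' : x' ∈ X) (hy : y ∈ Y) (hy' : y' ∈ Y)
    (h : x * y = x' * y') : x = x' ∧ y = y' := by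
  have h1 : x'⁻¹ * x = y' * y⁻¹ := by
    calc x'⁻¹ * x = x'⁻¹ * (x * y) * y⁻¹ := by group
      _ = x'⁻¹ * (x' * y') * y⁻¹ := by rw [h]
      _ = y' * y⁻¹ := by group
  have h2 : x'⁻¹ * x ∈ X ⊓ Y := ⟨X.mul_mem (X.inv_mem hx') hx, by rw [h1]; exact Y.mul_mem hy' (Y.inv_mem hy)⟩
  rw [d.inf, mem_bot] at h2
  have h3 : x = x' := (inv_mul_eq_one.mp h2).symm
  refine ⟨h3, ?_⟩
  rw [h3] at h
  exact mul_left_cancel h

theorem exists_mul (d : Dec K V X Y) (hVc : V ≤ centralizer (V : Set G)) {v : G} (hv : v ∈ V) :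
    ∃ x ∈ X, ∃ y ∈ Y, x * y = v := exists_mul_of_mem_sup hVc d.X_le d.Y_le (d.sup ▸ hv)

/-- An element of `K` which fixes `x y` fixes `x` and `y`. -/
theorem fix (d : Dec K V X Y) {k x y : G} (hk : k ∈ K) (hx : x ∈ X) (hy : y ∈ Y) (h : k * (x * y) = x * y * k) :
    k * x = x * k ∧ k * y = y * k := by
  have h1 : k * x * k⁻¹ ∈ X := (mem_normalizer_iff.mp (d.nX hk) x).mp hx
  have h2 : k * y * k⁻¹ ∈ Y := (mem_normalizer_iff.mp (d.nY hk) y).mp hy
  have h3 : k * x * k⁻¹ * (k * y * k⁻¹) = x * y := by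
    calc k * x * k⁻¹ * (k * y * k⁻¹) = k * (x * y) * k⁻¹ := by group
      _ = x * y * k * k⁻¹ := by rw [h]
      _ = x * y := by group
  obtain ⟨h4, h5⟩ := d.uniq h1 hx h2 hy h3
  refine ⟨?_, ?_⟩
  · calc k * x = k * x * k⁻¹ * k := by group
      _ = x * k := by rw [h4]
  · calc k * y = k * y * k⁻¹ * k := by group
      _ = y * k := by rw [h5]

end Dec

variable [Finite G]

theorem Dec.conj (d : Dec (KW P W) V X Y) (hPV : P ≤ normalizer (V : Set G)) {p : G} (hp : p ∈ P) :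
    Dec (KW P W) V (cj p X) (cj p Y) := by
  refine ⟨?_, ?_, ?_, ?_⟩
  · rw [← Subgroup.map_sup, d.sup]
    exact cj_eq_of_mem_normalizer (hPV hp)
  · rw [← cj_inf, d.inf, cj_bot]
  · rw [← cj_normalizer, ← cj_KW_eq (W := W) hp]
    exact cj_mono p d.nX
  · rw [← cj_normalizer, ← cj_KW_eq (W := W) hp]
    exact cj_mono p d.nY

/-- the hypotheses of step (5) -/
structure Dat (P V W : Subgroup G) : Prop where
  comm : V ≤ centralizer (V : Set G)
  norm : P ≤ normalizer (V : Set G)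
  two : ∀ X Y : Subgroup G, Dec W V X Y → W ≤ centralizer (X : Set G) ∨ W ≤ centralizer (Y : Set G)
  cen : V ⊓ centralizer (KW P W : Set G) = ⊥

namespace Dat

variable (h : Dat P V W)
include h

/-- every conjugate of `W` centralises `X` or `Y` -/
theorem two' (d : Dec (KW P W) V X Y) {p : G} (hp : p ∈ P) :
    cj p W ≤ centralizer (X : Set G) ∨ cj p W ≤ centralizer (Y : Set G) := by
  have h1 := h.two _ _ ((d.conj h.norm (inv_mem hp)).mono le_KW)
  refine h1.imp (fun h2 => ?_) (fun h2 => ?_)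
  · have h3 := cj_mono p h2
    rwa [cj_centralizer, cj_cj_inv] at h3
  · have h3 := cj_mono p h2
    rwa [cj_centralizer, cj_cj_inv] at h3

/-- `v ∈ Y` if `v` is fixed by the conjugates which do not centralise `X` -/
theorem mem_Y (d : Dec (KW P W) V X Y) {v : G} (hv : v ∈ V)
    (hf : ∀ p ∈ P, ¬ cj p W ≤ centralizer (X : Set G) → ∀ w ∈ cj p W, w * v = v * w) : v ∈ Y := by
  obtain ⟨x, hx, y, hy, rfl⟩ := d.exists_mul h.comm hv
  have h1 : KW P W ≤ centralizer ({x} : Set G) := by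
    refine KW_le fun p hp => ?_
    by_cases hc : cj p W ≤ centralizer (X : Set G)
    · intro w hw
      rw [mem_centralizer_singleton_iff]
      exact (mem_centralizer_iff.mp (hc hw) x hx).symm
    · intro w hw
      rw [mem_centralizer_singleton_iff]
      exact (d.fix (cj_le_KW hp hw) hx hy (hf p hp hc w hw)).1
  have h2 : x ∈ V ⊓ centralizer (KW P W : Set G) := by
    refine ⟨d.X_le hx, mem_centralizer_iff.mpr fun k hk => ?_⟩
    exact mem_centralizer_singleton_iff.mp (h1 hk)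
  rw [h.cen, mem_bot] at h2
  subst h2
  rwa [one_mul]

/-- refinement -/
theorem ref (d : Dec (KW P W) V X Y) (d' : Dec (KW P W) V X' Y') : X ≤ (X ⊓ X') ⊔ (X ⊓ Y') := by
  intro x hx
  obtain ⟨x', hx', y', hy', rfl⟩ := d'.exists_mul h.comm (d.X_le hx)
  have hfix : ∀ p ∈ P, ¬ cj p W ≤ centralizer (Y : Set G) → ∀ w ∈ cj p W, w * x' = x' * w ∧ w * y' = y' * w := by
    intro p hp hc w hw
    have h1 := (h.two' d hp).resolve_right hc
    exact d'.fix (cj_le_KW hp hw) hx' hy' (mem_centralizer_iff.mp (h1 hw) _ hx).symm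
  refine mul_mem_sup ⟨?_, hx'⟩ ⟨?_, hy'⟩
  · exact h.mem_Y d.symm (d'.X_le hx') fun p hp hc w hw => (hfix p hp hc w hw).1
  · exact h.mem_Y d.symm (d'.Y_le hy') fun p hp hc w hw => (hfix p hp hc w hw).2

theorem dec_inf (d : Dec (KW P W) V X Y) (d' : Dec (KW P W) V X' Y') :
    Dec (KW P W) V (X ⊓ X') ((X ⊓ Y') ⊔ Y) := by
  refine ⟨?_, ?_, ?_, ?_⟩
  · rw [← sup_assoc, ← d.sup]
    exact le_antisymm (sup_le_sup_right (sup_le inf_le_left inf_le_left) _) (sup_le_sup_right (h.ref d d') _)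
  · rw [eq_bot_iff]
    rintro a ⟨⟨ha, ha'⟩, hb⟩
    obtain ⟨b, hb, y, hy, e⟩ := exists_mul_of_mem_sup h.comm (inf_le_left.trans d.X_le) d.Y_le hb
    obtain ⟨e1, -⟩ := d.uniq hb.1 ha hy (one_mem Y) (by rw [e, mul_one])
    have h1 : a ∈ X' ⊓ Y' := ⟨ha', e1 ▸ hb.2⟩
    rwa [d'.inf] at h1
  · intro k hk
    refine mem_normalizer_of_cj_le ?_
    rw [cj_inf, cj_eq_of_mem_normalizer (d.nX hk), cj_eq_of_mem_normalizer (d'.nX hk)]
  · intro k hk
    refine mem_normalizer_of_cj_le ?_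
    rw [cj, Subgroup.map_sup]
    refine sup_le_sup ?_ (cj_eq_of_mem_normalizer (d.nY hk)).le
    change cj k (X ⊓ Y') ≤ _
    rw [cj_inf, cj_eq_of_mem_normalizer (d.nX hk), cj_eq_of_mem_normalizer (d'.nY hk)]

/-- a minimal summand -/
theorem exists_min (d : Dec (KW P W) V X Y) (hX : X ≠ ⊥) :
    ∃ X₀ Y₀, Dec (KW P W) V X₀ Y₀ ∧ X₀ ≠ ⊥ ∧ X₀ ≤ X ∧
      ∀ X' Y', Dec (KW P W) V X' Y' → X' ≤ X₀ → X' ≠ ⊥ → X' = X₀ := by
  obtain ⟨X₀, hmin⟩ := (Set.toFinite {Z : Subgroup G | (∃ Y, Dec (KW P W) V Z Y) ∧ Z ≠ ⊥ ∧ Z ≤ X}).exists_minimal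
    ⟨X, ⟨Y, d⟩, hX, le_rfl⟩
  obtain ⟨⟨⟨Y₀, d₀⟩, h1, h2⟩, h3⟩ := hmin
  exact ⟨X₀, Y₀, d₀, h1, h2, fun X' Y' d' hle hne => le_antisymm hle (h3 ⟨⟨Y', d'⟩, hne, hle.trans h2⟩ hle)⟩

/-- **the family of the conjugates of a minimal summand** -/
theorem exists_fam (d : Dec (KW P W) V X Y) (hX : X ≠ ⊥) (hY : Y ≠ ⊥) :
    ∃ (ι : Type u) (_ : Finite ι) (_ : Nontrivial ι) (Vf : ι → Subgroup G) (i₀ : ι), iSupIndep Vf ∧ ⨆ i, Vf i = V ∧
      (∀ p ∈ P, ∀ i, ∃ j, cj p (Vf i) = Vf j) ∧ (∀ i j, ∃ p ∈ P, cj p (Vf i) = Vf j) ∧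
      ∀ j, j ≠ i₀ → W ≤ centralizer (Vf j : Set G) := by
  obtain ⟨X₀, Y₀, d₀, hX₀, hX₀X, hmin⟩ := h.exists_min d hX
  -- `X₀ < V`
  have hX₀V : X₀ ≠ V := by
    intro e
    apply hY
    rw [eq_bot_iff, ← d.inf]
    refine le_inf ?_ le_rfl
    exact d.Y_le.trans (e ▸ hX₀X)
  -- two conjugates
  have hconj : ∀ p ∈ P, ∀ q ∈ P, cj p X₀ ≠ cj q X₀ → cj p X₀ ≤ cj q Y₀ := by
    intro p hp q hq hne
    have dp := d₀.conj h.norm hp
    have dq := d₀.conj h.norm hq
    have d1 := h.dec_inf dp dq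
    have h1 : cj p X₀ ⊓ cj q X₀ = ⊥ := by
      by_contra hne1
      apply hne
      have h2 := hmin _ _ (d1.conj h.norm (inv_mem hp)) (by
        have := cj_mono p⁻¹ (inf_le_left : cj p X₀ ⊓ cj q X₀ ≤ cj p X₀)
        rwa [cj_cj, inv_mul_cancel, cj_one] at this) (by
        intro e
        apply hne1
        have := congrArg (cj p) e
        rwa [cj_cj_inv, cj_bot] at this)
      have h3 : cj p X₀ ⊓ cj q X₀ = cj p X₀ := by
        have := congrArg (cj p) h2
        rwa [cj_cj_inv] at this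
      refine Subgroup.eq_of_le_of_card_ge (inf_eq_left.mp h3) ?_
      rw [card_cj, card_cj]
    have h2 := h.ref dp dq
    rw [h1, bot_sup_eq] at h2
    exact h2.trans inf_le_right
  -- the sum of the conjugates is `V`
  have hsum : ∀ s : Set G, s.Finite → s ⊆ P →
      V ≤ (⨆ p ∈ s, cj p X₀) ⊔ (V ⊓ ⨅ p ∈ s, cj p Y₀) := by
    intro s hs
    induction s, hs using Set.Finite.induction_on with
    | empty =>
      intro _
      refine le_trans ?_ le_sup_right
      simp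
    | @insert q s hq _ ih =>
      intro hsub
      have hqP : q ∈ P := hsub (Set.mem_insert _ _)
      have hsP : s ⊆ P := (Set.subset_insert _ _).trans hsub
      refine (ih hsP).trans ?_
      refine sup_le ?_ ?_
      · refine le_trans ?_ le_sup_left
        exact biSup_mono fun p hp => Set.mem_insert_of_mem _ hp
      · rintro y ⟨hyV, hy⟩
        have dq := d₀.conj h.norm hqP
        obtain ⟨a, ha, b, hb, rfl⟩ := dq.exists_mul h.comm hyV
        refine mul_mem_sup ?_ ⟨dq.Y_le hb, ?_⟩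
        · exact (le_biSup (fun p => cj p X₀) (Set.mem_insert q s)) ha
        · refine mem_iInf.mpr fun p => mem_iInf.mpr fun hp => ?_
          rcases Set.mem_insert_iff.mp hp with rfl | hp
          · exact hb
          · have dp := d₀.conj h.norm (hsP hp)
            have hy1 : a * b ∈ cj p Y₀ := by
              have := mem_iInf.mp hy p
              exact mem_iInf.mp this hp
            refine h.mem_Y dp (dq.Y_le hb) fun r hr hc w hw => ?_
            have h1 := (h.two' dp hr).resolve_left hc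
            exact (dq.fix (cj_le_KW hr hw) ha hb (mem_centralizer_iff.mp (h1 hw) _ hy1).symm).2
  have hsupV : ⨆ p ∈ P, cj p X₀ = V := by
    refine le_antisymm (iSup₂_le fun p hp => (d₀.conj h.norm hp).X_le) ?_
    refine (hsum (P : Set G) (Set.toFinite _) le_rfl).trans ?_
    refine sup_le le_rfl ?_
    refine le_trans ?_ bot_le
    rw [← h.cen]
    rintro v ⟨hv, hvY⟩
    refine ⟨hv, ?_⟩
    -- some conjugate does not centralise `X₀`
    obtain ⟨q₀, hq₀, hc⟩ : ∃ q₀ ∈ P, ¬ cj q₀ W ≤ centralizer (X₀ : Set G) := by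
      by_contra hcon
      push Not at hcon
      apply hX₀
      rw [eq_bot_iff, ← h.cen]
      refine le_inf d₀.X_le ?_
      have h1 := KW_le hcon
      exact Subgroup.le_centralizer_iff.mp h1
    have h1 := (h.two' d₀ hq₀).resolve_left hc
    have h2 : KW P W ≤ centralizer ({v} : Set G) := by
      refine KW_le fun q hq => ?_
      have hp : q * q₀⁻¹ ∈ P := mul_mem hq (inv_mem hq₀)
      have h3 := cj_mono (q * q₀⁻¹) h1
      rw [cj_cj, cj_centralizer, inv_mul_cancel_right] at h3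
      have h4 : v ∈ cj (q * q₀⁻¹) Y₀ := by
        have := mem_iInf.mp hvY (q * q₀⁻¹)
        exact mem_iInf.mp this hp
      intro w hw
      rw [mem_centralizer_singleton_iff]
      exact (mem_centralizer_iff.mp (h3 hw) v h4).symm
    refine mem_centralizer_iff.mpr fun k hk => ?_
    exact mem_centralizer_singleton_iff.mp (h2 hk)
  -- the family
  let ι : Type u := {Z : Subgroup G // ∃ p ∈ P, Z = cj p X₀}
  have hVf : ⨆ i : ι, i.1 = V := by
    rw [← hsupV]
    refine le_antisymm (iSup_le ?_) (iSup₂_le fun p hp => ?_)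
    · rintro ⟨_, p, hp, rfl⟩
      exact le_biSup (fun p => cj p X₀) hp
    · exact le_iSup (fun i : ι => i.1) ⟨_, p, hp, rfl⟩
  -- a conjugate which is not centralised by `W`
  have hWV : ¬ W ≤ centralizer (V : Set G) := by
    intro hc
    apply hX₀
    rw [eq_bot_iff, ← h.cen]
    refine le_inf d₀.X_le ?_
    have h1 : KW P W ≤ centralizer (X₀ : Set G) := by
      refine KW_le fun p hp => ?_
      have h2 := cj_mono p hc
      rw [cj_centralizer, cj_eq_of_mem_normalizer (h.norm hp)] at h2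
      exact h2.trans (centralizer_le d₀.X_le)
    exact Subgroup.le_centralizer_iff.mp h1
  obtain ⟨p₀, hp₀, hc₀⟩ : ∃ p ∈ P, ¬ W ≤ centralizer (cj p X₀ : Set G) := by
    by_contra hcon
    push Not at hcon
    apply hWV
    rw [Subgroup.le_centralizer_iff, ← hsupV]
    exact iSup₂_le fun p hp => Subgroup.le_centralizer_iff.mp (hcon p hp)
  refine ⟨ι, inferInstance, ?_, fun i => i.1, ⟨_, p₀, hp₀, rfl⟩, ?_, hVf, ?_, ?_, ?_⟩
  · by_contra hnt
    rw [not_nontrivial_iff_subsingleton] at hnt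
    apply hX₀V
    rw [← hVf]
    refine le_antisymm (le_iSup (fun i : ι => i.1) ⟨X₀, 1, one_mem P, (cj_one _).symm⟩) (iSup_le fun i => ?_)
    have := hnt.elim i ⟨X₀, 1, one_mem P, (cj_one _).symm⟩
    rw [this]
  · rintro ⟨_, p, hp, rfl⟩
    have dp := d₀.conj h.norm hp
    rw [disjoint_iff, eq_bot_iff, ← dp.inf]
    refine inf_le_inf_left _ (iSup₂_le ?_)
    rintro ⟨_, q, hq, rfl⟩ hne
    exact hconj q hq p hp fun e => hne (Subtype.ext e)
  · rintro p hp ⟨_, q, hq, rfl⟩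
    exact ⟨⟨_, p * q, mul_mem hp hq, rfl⟩, cj_cj _ _ _⟩
  · rintro ⟨_, p, hp, rfl⟩ ⟨_, q, hq, rfl⟩
    refine ⟨q * p⁻¹, mul_mem hq (inv_mem hp), ?_⟩
    change cj (q * p⁻¹) (cj p X₀) = cj q X₀
    rw [cj_cj, inv_mul_cancel_right]
  · rintro ⟨_, q, hq, rfl⟩ hne
    have h1 : cj q X₀ ≤ cj p₀ Y₀ := hconj q hq p₀ hp₀ fun e => hne (Subtype.ext e)
    have h2 := h.two _ _ ((d₀.conj h.norm hp₀).mono le_KW)
    exact (h2.resolve_left hc₀).trans (centralizer_le h1)

end Dat

/-- **(5)** : `V` is `K`-indecomposable, or `V ≤ O₂(C_G(FF))`. -/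
theorem indec {S : Sylow 2 G} {FF : Subgroup G} (hS : Sit S P V) (h : Dat P V W) (hWP : W ≤ P) (hW2 : IsPGroup 2 W)
    (hWF : V ⊓ centralizer (W : Set G) ≤ FF) (hFV : V ≤ centralizer (FF : Set G))
    (hFc : FF ≤ centralizer (FF : Set G)) (hF2 : IsPGroup 2 FF) (hZF : V ⊓ zc (S : Subgroup G) ≤ FF)
    (hbad : ¬ V ≤ o2 (centralizer (FF : Set G))) (d : Dec (KW P W) V X Y) : X = ⊥ ∨ Y = ⊥ := by
  by_contra hcon
  push Not at hcon
  obtain ⟨ι, _, _, Vf, i₀, hind, hsup, hperm, htr, hcen⟩ := h.exists_fam d hcon.1 hcon.2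
  have hle : ∀ i, Vf i ≤ V := fun i => hsup ▸ le_iSup Vf i
  refine hbad (single_fam hS hind hsup hperm htr hWP hW2 ?_ hcen hFV hFc hF2 ?_ hZF)
  · intro hc
    have h1 : V ≤ V ⊓ centralizer (KW P W : Set G) := by
      refine le_inf le_rfl (Subgroup.le_centralizer_iff.mp (KW_le fun p hp => ?_))
      have h2 := cj_mono p hc
      rwa [cj_centralizer, cj_eq_of_mem_normalizer (h.norm hp)] at h2
    rw [h.cen] at h1
    exact hcon.1 (le_bot_iff.mp (d.X_le.trans h1))
  · intro j hj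
    exact (le_inf (hle j) (Subgroup.le_centralizer_iff.mp (hcen j hj))).trans hWF

end Cfsg.Agent.Omega.NO1.WRF.Indec

end

section


/-!
# THEOREM WRF (bb OMEGA #16078), end of step (3): `V = V₁ × V₂`, `|V₁| = |V₂| = 4`

`four_false` : `Sit S P V`, no offender on `V`, `P` permutes `{V₁, V₂}`, `P = K S` for `K = N_P(V₁)`, there are
`a ∈ S ∩ K` and `s ∈ S - K` which commute modulo `C(V)`, `a` is nontrivial on `V`: impossible.
-/

set_option autoImplicit false
set_option linter.unusedSectionVars false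

namespace Cfsg.Agent.Omega.NO1.WRF.Four

open Subgroup Cfsg Cfsg.Agent.ZN Cfsg.Agent.ZN.ChoiceBase Cfsg.Agent.Omega.MinPar Cfsg.Agent.Omega.Frame
open Cfsg.Agent.Omega.NO1 Cfsg.Agent.Omega.NO1.WRF.Single
open Cfsg.Agent.Omega.FFThm (ElemM OffM)

universe u

/-! ### `S₃` -/

section S3

theorem s3_sq : ∀ x : Equiv.Perm (Fin 3), x ^ 3 ≠ 1 → x ^ 2 = 1 := by decide

set_option maxRecDepth 100000 in
theorem s3_mul : ∀ x y : Equiv.Perm (Fin 3), x ^ 3 ≠ 1 → y ^ 3 ≠ 1 → (x * y) ^ 3 = 1 := by decide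

set_option maxRecDepth 100000 in
theorem s3_inv : ∀ x y : Equiv.Perm (Fin 3), x ^ 3 = 1 → y ^ 3 ≠ 1 → y * x * y⁻¹ * x = 1 := by decide

set_option maxRecDepth 100000 in
theorem s3_comm : ∀ x y : Equiv.Perm (Fin 3), x ^ 3 = 1 → y ^ 3 = 1 → x * y = y * x := by decide

theorem s3_fix : ∀ x : Equiv.Perm (Fin 3), x ^ 3 ≠ 1 → ∃ i, x i = i := by decide

end S3

variable {G : Type u} [Group G]

/-- The action on the three nontrivial elements of a group of order 4. -/
theorem exists_rho {A : Subgroup G} [Finite A] (hA : Nat.card A = 4) :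
    ∃ ρ : normalizer (A : Set G) →* Equiv.Perm (Fin 3),
      (∀ n, ρ n = 1 ↔ (n : G) ∈ centralizer (A : Set G)) ∧
      ∀ n, ρ n ^ 3 ≠ 1 → ∃ v ∈ A, v ≠ 1 ∧ (n : G) * v * (n : G)⁻¹ = v := by
  classical
  have h3 : Nat.card {v : A // v ≠ 1} = 3 := by
    have := Fintype.ofFinite A
    rw [Nat.card_eq_fintype_card, Fintype.card_subtype_compl, Fintype.card_subtype_eq,
      ← Nat.card_eq_fintype_card, hA]
  have e : {v : A // v ≠ 1} ≃ Fin 3 := Finite.equivFinOfCardEq h3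
  let act (n : normalizer (A : Set G)) (v : {v : A // v ≠ 1}) : {v : A // v ≠ 1} :=
    ⟨⟨n * v.1 * (n : G)⁻¹, (mem_normalizer_iff.mp n.2 _).mp v.1.2⟩, by
      intro h
      apply v.2
      have h1 : (n : G) * v.1 * (n : G)⁻¹ = 1 := congrArg Subtype.val h
      apply Subtype.ext
      have e1 : ((v.1 : A) : G) = (n : G)⁻¹ * ((n : G) * v.1 * (n : G)⁻¹) * n := by group
      rw [e1, h1]
      simp⟩
  have hact : ∀ n v, (((act n v).1 : A) : G) = n * v.1 * (n : G)⁻¹ := fun n v => rfl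
  have hmul : ∀ m n v, act (m * n) v = act m (act n v) := by
    intro m n v
    apply Subtype.ext
    apply Subtype.ext
    rw [hact, hact, hact]
    push_cast
    group
  have hone : ∀ v, act 1 v = v := by
    intro v
    apply Subtype.ext
    apply Subtype.ext
    rw [hact]
    simp
  let A1 : MulAction (normalizer (A : Set G)) {v : A // v ≠ 1} :=
    { smul := act, one_smul := hone, mul_smul := hmul }
  let ρ₀ : normalizer (A : Set G) →* Equiv.Perm {v : A // v ≠ 1} := MulAction.toPermHom _ _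
  have hρ₀ : ∀ n v, ρ₀ n v = act n v := fun n v => rfl
  let φ : Equiv.Perm {v : A // v ≠ 1} ≃* Equiv.Perm (Fin 3) := e.permCongrHom
  refine ⟨φ.toMonoidHom.comp ρ₀, fun n => ?_, fun n hn => ?_⟩
  · rw [MonoidHom.comp_apply]
    have h1 : φ.toMonoidHom (ρ₀ n) = 1 ↔ ρ₀ n = 1 := φ.map_eq_one_iff
    rw [h1]
    constructor
    · intro h
      rw [mem_centralizer_iff]
      intro v hv
      by_cases hv1 : v = 1
      · subst hv1; simp
      · have h2 : ρ₀ n ⟨⟨v, hv⟩, fun h => hv1 (congrArg Subtype.val h)⟩ = ⟨⟨v, hv⟩, fun h => hv1 (congrArg Subtype.val h)⟩ := by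
          rw [h]; rfl
        have h3 : (n : G) * v * (n : G)⁻¹ = v := congrArg (fun w : {v : A // v ≠ 1} => ((w.1 : A) : G)) h2
        exact (mul_inv_eq_iff_eq_mul.mp h3).symm
    · intro h
      apply Equiv.ext
      intro v
      apply Subtype.ext
      apply Subtype.ext
      rw [hρ₀, hact, Equiv.Perm.one_apply]
      have h2 := mem_centralizer_iff.mp h _ v.1.2
      rw [← h2, mul_assoc, mul_inv_cancel, mul_one]
  · obtain ⟨i, hi⟩ := s3_fix _ hn
    have h1 : e (ρ₀ n (e.symm i)) = i := hi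
    have h2 : ρ₀ n (e.symm i) = e.symm i := e.injective (by rw [h1, Equiv.apply_symm_apply])
    refine ⟨((e.symm i).1 : A), (e.symm i).1.2, fun h => (e.symm i).2 (Subtype.ext h), ?_⟩
    exact congrArg (fun w : {v : A // v ≠ 1} => ((w.1 : A) : G)) h2

/-- The action on `V` as a homomorphism. -/
theorem exists_theta {P V : Subgroup G} (h : P ≤ normalizer (V : Set G)) :
    ∃ θ : P →* MulAut V, ∀ x, θ x = 1 ↔ (x : G) ∈ centralizer (V : Set G) := by
  refine ⟨(normalizerMonoidHom V).comp (inclusion h), fun x => ?_⟩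
  rw [MonoidHom.comp_apply, ← MonoidHom.mem_ker, normalizerMonoidHom_ker, mem_subgroupOf]
  rfl

/-- A 2-element of order dividing 3 is trivial. -/
theorem eq_one_of_pow {M : Type*} [Monoid M] {x : M} {n : ℕ} (h3 : x ^ 3 = 1) (h2 : x ^ (2 ^ n) = 1) : x = 1 := by
  have h4 := orderOf_dvd_of_pow_eq_one h3
  have h5 := orderOf_dvd_of_pow_eq_one h2
  have h6 : Nat.Coprime 3 (2 ^ n) := Nat.Coprime.pow_right n (by norm_num)
  exact orderOf_eq_one_iff.mp (Nat.eq_one_of_dvd_coprimes h6 h4 h5)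

/-- No central involution modulo `C(V)`. -/
theorem central_false [Finite G] {S : Sylow 2 G} {P V : Subgroup G} (hs : Sit S P V) {t : G}
    (htS : t ∈ (S : Subgroup G)) (htC : t ∉ centralizer (V : Set G))
    (hcen : ∀ p ∈ P, p * t * p⁻¹ * t⁻¹ ∈ centralizer (V : Set G)) : False := by
  have hSP : (S : Subgroup G) ≤ P := hs.par.le
  have htP := hSP htS
  set X : Subgroup G := (P ⊓ centralizer (V : Set G)) ⊔ zpowers t with hX
  have htX : t ∈ X := (le_sup_right : zpowers t ≤ X) (mem_zpowers t)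
  have hXP : X ≤ P := sup_le inf_le_left (zpowers_le.mpr htP)
  have hPX : P ≤ normalizer (X : Set G) := by
    intro p hp
    refine mem_normalizer_of_cj_le ?_
    rw [hX, cj, Subgroup.map_sup]
    refine sup_le ?_ ?_
    · refine le_trans ?_ le_sup_left
      change cj p _ ≤ _
      rw [cj_inf, cj_eq_of_mem_normalizer (le_normalizer hp), cj_centralizer,
        cj_eq_of_mem_normalizer (hs.norm hp)]
    · rw [Subgroup.map_le_iff_le_comap, zpowers_le]
      change p * t * p⁻¹ ∈ X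
      have e : p * t * p⁻¹ = p * t * p⁻¹ * t⁻¹ * t := by group
      rw [e]
      refine mul_mem ((le_sup_left : P ⊓ centralizer (V : Set G) ≤ X) ⟨?_, hcen p hp⟩) htX
      exact P.mul_mem (P.mul_mem (P.mul_mem hp htP) (P.inv_mem hp)) (P.inv_mem htP)
  rcases hs.par.sup_eq_or_inf_le S hXP hPX with h1 | h1
  · have h2 : (P ⊓ centralizer (V : Set G)) ⊔ (S : Subgroup G) = P := by
      refine le_antisymm (sup_le inf_le_left hSP) ?_
      conv_lhs => rw [← h1]
      exact sup_le (sup_le le_sup_left ((zpowers_le.mpr htS).trans le_sup_right)) le_sup_right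
    have hn : (S : Subgroup G) ≤ normalizer ((P ⊓ centralizer (V : Set G) : Subgroup G) : Set G) := by
      intro x hx
      refine mem_normalizer_of_cj_le ?_
      rw [cj_inf, cj_eq_of_mem_normalizer (le_normalizer (hSP hx)), cj_centralizer,
        cj_eq_of_mem_normalizer (hs.norm (hSP hx))]
    have h3 : V ≤ zc (S : Subgroup G) := by
      refine hs.gen _ fun p hp z hzV hz => ?_
      have hp' : p ∈ (((S : Subgroup G) ⊔ (P ⊓ centralizer (V : Set G)) : Subgroup G) : Set G) := by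
        rw [sup_comm, h2]; exact hp
      rw [coe_mul_of_left_le_normalizer_right _ _ hn] at hp'
      obtain ⟨x, hx, c, hc, rfl⟩ := hp'
      change x * c * z * (x * c)⁻¹ ∈ _
      have e1 : c * z * c⁻¹ = z := by
        rw [← mem_centralizer_iff.mp hc.2 z hzV]; group
      have e2 : x * z * x⁻¹ = z := by
        rw [(ChoiceBase.mem_zc.1 hz).2.2 x hx]; group
      have e3 : x * c * z * (x * c)⁻¹ = z := by
        calc x * c * z * (x * c)⁻¹ = x * (c * z * c⁻¹) * x⁻¹ := by group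
          _ = z := by rw [e1, e2]
      rw [e3]
      exact hz
    apply htC
    rw [mem_centralizer_iff]
    intro v hv
    exact ((ChoiceBase.mem_zc.1 (h3 hv)).2.2 t htS).symm
  · exact htC (hs.o2_le (h1 ⟨htS, htX⟩))

/-- No transvections. -/
theorem transv [Finite G] {P V A B : Subgroup G} (noff : ∀ X : Subgroup G, X ≤ P → ¬ OffM V X)
    (hA4 : Nat.card A = 4) (hB4 : Nat.card B = 4) (hsup : A ⊔ B = V) (hinf : A ⊓ B = ⊥)
    (hc : V ≤ centralizer (V : Set G)) {y : G} (hy : y ∈ P) (hyB : y ∈ centralizer (B : Set G))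
    (hyA : y ∉ centralizer (A : Set G)) (hy2 : y ^ 2 ∈ centralizer (V : Set G)) {v : G} (hv : v ∈ A)
    (hv1 : v ≠ 1) (hyv : y * v * y⁻¹ = v) : False := by
  have hAV : A ≤ V := hsup ▸ le_sup_left
  have hBV : B ≤ V := hsup ▸ le_sup_right
  have hV : Nat.card V = 16 := by
    have h1 := Cfsg.Agent.PLocal.ElemAbSup.card_sup_mul_card_inf (A := A) (B := B)
      (hBV.trans (hc.trans (centralizer_le hAV)))
    rw [hsup, hinf, hA4, hB4, Subgroup.card_bot, mul_one] at h1
    exact h1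
  have hyV : y ∉ centralizer (V : Set G) := fun h1 => hyA (centralizer_le hAV h1)
  have hD : 8 ≤ Nat.card (V ⊓ centralizer (zpowers y : Set G) : Subgroup G) := by
    have hBD : B ≤ V ⊓ centralizer (zpowers y : Set G) := by
      refine le_inf hBV ?_
      rw [Subgroup.le_centralizer_iff, zpowers_le]
      exact hyB
    have hvD : v ∈ V ⊓ centralizer (zpowers y : Set G) := by
      refine mem_inf.mpr ⟨hAV hv, ?_⟩
      have h1 : zpowers y ≤ centralizer ({v} : Set G) := by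
        rw [zpowers_le, mem_centralizer_singleton_iff]
        rw [mul_inv_eq_iff_eq_mul] at hyv
        exact hyv
      rw [mem_centralizer_iff]
      intro x hx
      exact mem_centralizer_singleton_iff.mp (h1 hx)
    have hvB : v ∉ B := fun h1 => hv1 (mem_bot.mp (hinf ▸ ⟨hv, h1⟩))
    have h1 := Subgroup.card_dvd_of_le hBD
    rw [hB4] at h1
    obtain ⟨k, hk⟩ := h1
    rcases k with _ | _ | k
    · simp only [mul_zero] at hk
      exact absurd hk Nat.card_pos.ne'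
    · exfalso
      apply hvB
      have h2 : B = V ⊓ centralizer (zpowers y : Set G) := eq_of_le_of_card_ge hBD (by rw [hk, hB4])
      rw [h2]; exact hvD
    · rw [hk]; omega
  have hE : 2 * Nat.card (zpowers y ⊓ centralizer (V : Set G) : Subgroup G) ≤ Nat.card (zpowers y) := by
    have h1 := Subgroup.card_dvd_of_le (inf_le_left : zpowers y ⊓ centralizer (V : Set G) ≤ zpowers y)
    obtain ⟨k, hk⟩ := h1
    rcases k with _ | _ | k
    · simp only [mul_zero] at hk
      exact absurd hk Nat.card_pos.ne'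
    · exfalso
      have h2 : zpowers y ⊓ centralizer (V : Set G) = zpowers y :=
        eq_of_le_of_card_ge inf_le_left (by rw [hk]; simp)
      exact hyV (inf_eq_left.mp h2 (mem_zpowers y))
    · rw [hk]
      calc 2 * Nat.card (zpowers y ⊓ centralizer (V : Set G) : Subgroup G)
          = Nat.card (zpowers y ⊓ centralizer (V : Set G) : Subgroup G) * 2 := mul_comm _ _
        _ ≤ _ := Nat.mul_le_mul_left _ (by omega)
  refine noff (zpowers y) (zpowers_le.mpr hy) ⟨⟨?_, ?_⟩, ?_, ?_⟩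
  · rintro a ⟨k, rfl⟩
    have e : (y ^ k) ^ 2 = (y ^ 2) ^ k := by
      rw [← zpow_natCast, ← zpow_mul, ← zpow_natCast, ← zpow_mul, mul_comm]
    change (y ^ k) ^ 2 ∈ _
    rw [e]
    exact Subgroup.zpow_mem _ hy2 k
  · rintro a ⟨k, rfl⟩ b ⟨l, rfl⟩
    change y ^ k * y ^ l * (y ^ k)⁻¹ * (y ^ l)⁻¹ ∈ _
    have e : y ^ k * y ^ l * (y ^ k)⁻¹ * (y ^ l)⁻¹ = 1 := by group
    rw [e]
    exact one_mem _
  · intro h1
    exact hyV (h1 (mem_zpowers y))
  · calc Nat.card V * Nat.card (zpowers y ⊓ centralizer (V : Set G) : Subgroup G)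
        = (2 * Nat.card (zpowers y ⊓ centralizer (V : Set G) : Subgroup G)) * 8 := by rw [hV]; ring
      _ ≤ _ := Nat.mul_le_mul hE hD

/-- The configuration. -/
structure Conf (S : Sylow 2 G) (P V V₁ V₂ : Subgroup G) (a s : G) : Prop where
  sit : Sit S P V
  noff : ∀ A : Subgroup G, A ≤ P → ¬ OffM V A
  card1 : Nat.card V₁ = 4
  card2 : Nat.card V₂ = 4
  sup : V₁ ⊔ V₂ = V
  inf : V₁ ⊓ V₂ = ⊥
  perm : ∀ p ∈ P, (cj p V₁ = V₁ ∧ cj p V₂ = V₂) ∨ (cj p V₁ = V₂ ∧ cj p V₂ = V₁)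
  dec : ∀ p ∈ P, ∃ k ∈ P, cj k V₁ = V₁ ∧ ∃ x ∈ (S : Subgroup G), k * x = p
  aS : a ∈ (S : Subgroup G)
  aV₁ : cj a V₁ = V₁
  aC : a ∉ centralizer (V : Set G)
  sS : s ∈ (S : Subgroup G)
  sV₁ : cj s V₁ ≠ V₁
  as : a * s * a⁻¹ * s⁻¹ ∈ centralizer (V : Set G)
  ss : s ^ 2 ∈ centralizer (V : Set G)

/-- **`|V| = 16` is impossible.** -/
theorem Conf.false [Finite G] {S : Sylow 2 G} {P V V₁ V₂ : Subgroup G} {a s : G}
    (h : Conf S P V V₁ V₂ a s) : False := by
  have hSP : (S : Subgroup G) ≤ P := h.sit.par.le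
  have hV1 : V₁ ≤ V := h.sup ▸ le_sup_left
  have hV2 : V₂ ≤ V := h.sup ▸ le_sup_right
  have hne : V₁ ≠ V₂ := by
    intro h1
    have h2 := h.inf
    rw [← h1, inf_idem] at h2
    have h3 := h.card1
    rw [h2, Subgroup.card_bot] at h3
    omega
  have hK2 : ∀ x ∈ P, cj x V₁ = V₁ → cj x V₂ = V₂ := by
    intro x hx h1
    rcases h.perm x hx with h2 | h2
    · exact h2.2
    · exact absurd (h1.symm.trans h2.1) hne
  have hcV : ∀ x : G, x ∈ centralizer (V₁ : Set G) → x ∈ centralizer (V₂ : Set G) →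
      x ∈ centralizer (V : Set G) := by
    intro x h1 h2
    have h3 : V ≤ centralizer ({x} : Set G) := by
      rw [← h.sup]
      refine sup_le ?_ ?_
      · intro v hv
        rw [mem_centralizer_singleton_iff]
        exact mem_centralizer_iff.mp h1 v hv
      · intro v hv
        rw [mem_centralizer_singleton_iff]
        exact mem_centralizer_iff.mp h2 v hv
    rw [mem_centralizer_iff]
    intro v hv
    exact mem_centralizer_singleton_iff.mp (h3 hv)
  obtain ⟨ρ₁, r1, f1⟩ := exists_rho h.card1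
  obtain ⟨ρ₂, r2, f2⟩ := exists_rho h.card2
  set K : Subgroup G := P ⊓ normalizer (V₁ : Set G) with hK
  have hK1 : K ≤ normalizer (V₁ : Set G) := inf_le_right
  have hK2' : K ≤ normalizer (V₂ : Set G) := fun x hx =>
    mem_normalizer_iff_cj.2 (hK2 x hx.1 (mem_normalizer_iff_cj.1 hx.2))
  set σ₁ : K →* Equiv.Perm (Fin 3) := ρ₁.comp (inclusion hK1) with hσ₁
  set σ₂ : K →* Equiv.Perm (Fin 3) := ρ₂.comp (inclusion hK2') with hσ₂
  have s1 : ∀ x : K, σ₁ x = 1 ↔ (x : G) ∈ centralizer (V₁ : Set G) := fun x => r1 (inclusion hK1 x)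
  have s2 : ∀ x : K, σ₂ x = 1 ↔ (x : G) ∈ centralizer (V₂ : Set G) := fun x => r2 (inclusion hK2' x)
  have g1 : ∀ x : K, σ₁ x ^ 3 ≠ 1 → ∃ v ∈ V₁, v ≠ 1 ∧ (x : G) * v * (x : G)⁻¹ = v :=
    fun x => f1 (inclusion hK1 x)
  have g2 : ∀ x : K, σ₂ x ^ 3 ≠ 1 → ∃ v ∈ V₂, v ≠ 1 ∧ (x : G) * v * (x : G)⁻¹ = v :=
    fun x => f2 (inclusion hK2' x)
  have hiff : ∀ x : K, σ₁ x ^ 3 = 1 ↔ σ₂ x ^ 3 = 1 := by
    intro x
    constructor
    · intro h1
      by_contra h2
      have e1 : (((x ^ 3 : K) : G)) ∈ centralizer (V₁ : Set G) := by rw [← s1, map_pow, h1]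
      have e2 : (((x ^ 3 : K) : G)) ∉ centralizer (V₂ : Set G) := by rwa [← s2, map_pow]
      have e3 : σ₂ (x ^ 3) ^ 3 ≠ 1 := by
        rw [map_pow]
        have h3 := s3_sq _ h2
        have e : (σ₂ x ^ 3) ^ 3 = (σ₂ x ^ 2) ^ 3 * σ₂ x ^ 3 := by group
        rw [e, h3]; simpa using h2
      obtain ⟨v, hv, hv1, hxv⟩ := g2 _ e3
      have e4 : (((x ^ 3 : K) : G)) ^ 2 ∈ centralizer (V : Set G) := by
        refine hcV _ (pow_mem e1 2) ?_
        have : (((x ^ 3 : K) : G)) ^ 2 = (((x ^ 3) ^ 2 : K) : G) := rfl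
        rw [this, ← s2, map_pow, map_pow]
        have e : (σ₂ x ^ 3) ^ 2 = (σ₂ x ^ 2) ^ 3 := by group
        rw [e, s3_sq _ h2, one_pow]
      exact transv h.noff h.card2 h.card1 (by rw [sup_comm]; exact h.sup) (by rw [inf_comm]; exact h.inf)
        h.sit.comm (x ^ 3 : K).2.1 e1 e2 e4 hv hv1 hxv
    · intro h1
      by_contra h2
      have e1 : (((x ^ 3 : K) : G)) ∈ centralizer (V₂ : Set G) := by rw [← s2, map_pow, h1]
      have e2 : (((x ^ 3 : K) : G)) ∉ centralizer (V₁ : Set G) := by rwa [← s1, map_pow]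
      have e3 : σ₁ (x ^ 3) ^ 3 ≠ 1 := by
        rw [map_pow]
        have h3 := s3_sq _ h2
        have e : (σ₁ x ^ 3) ^ 3 = (σ₁ x ^ 2) ^ 3 * σ₁ x ^ 3 := by group
        rw [e, h3]; simpa using h2
      obtain ⟨v, hv, hv1, hxv⟩ := g1 _ e3
      have e4 : (((x ^ 3 : K) : G)) ^ 2 ∈ centralizer (V : Set G) := by
        refine hcV _ ?_ (pow_mem e1 2)
        have : (((x ^ 3 : K) : G)) ^ 2 = (((x ^ 3) ^ 2 : K) : G) := rfl
        rw [this, ← s1, map_pow, map_pow]
        have e : (σ₁ x ^ 3) ^ 2 = (σ₁ x ^ 2) ^ 3 := by group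
        rw [e, s3_sq _ h2, one_pow]
      exact transv h.noff h.card1 h.card2 h.sup h.inf h.sit.comm (x ^ 3 : K).2.1 e1 e2 e4 hv hv1 hxv
  -- the elements of `S ∩ K`
  have hpw : ∀ x : G, x ∈ (S : Subgroup G) → ∃ n : ℕ, x ^ 2 ^ n = 1 := by
    intro x hx
    obtain ⟨n, hn⟩ := S.isPGroup' ⟨x, hx⟩
    exact ⟨n, congrArg Subtype.val hn⟩
  have hSK : ∀ x : K, (x : G) ∈ (S : Subgroup G) → σ₁ x ^ 3 = 1 → (x : G) ∈ centralizer (V : Set G) := by
    intro x hx h1
    have h2 := (hiff x).mp h1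
    obtain ⟨n, hn⟩ := hpw x hx
    have hn' : x ^ 2 ^ n = 1 := Subtype.ext hn
    refine hcV _ ((s1 x).mp (eq_one_of_pow (n := n) h1 ?_)) ((s2 x).mp (eq_one_of_pow (n := n) h2 ?_))
    · rw [← map_pow, hn', map_one]
    · rw [← map_pow, hn', map_one]
  have haP : a ∈ P := hSP h.aS
  have hsP : s ∈ P := hSP h.sS
  have haK : a ∈ K := ⟨haP, mem_normalizer_iff_cj.2 h.aV₁⟩
  have ha1 : σ₁ ⟨a, haK⟩ ^ 3 ≠ 1 := fun h1 => h.aC (hSK ⟨a, haK⟩ h.aS h1)
  have ha2 : σ₂ ⟨a, haK⟩ ^ 3 ≠ 1 := fun h1 => ha1 ((hiff _).mpr h1)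
  obtain ⟨θ, hθ⟩ := exists_theta h.sit.norm
  have hθ' : ∀ x y : P, θ x = θ y ↔ (x : G) * (y : G)⁻¹ ∈ centralizer (V : Set G) := by
    intro x y
    rw [← mul_inv_eq_one, ← map_inv, ← map_mul, hθ]
    rfl
  set A : P := ⟨a, haP⟩ with hA
  set B : P := ⟨s, hsP⟩ with hB
  have cAB : θ A * θ B = θ B * θ A := by
    rw [← map_mul, ← map_mul, hθ']
    have e : ((A * B : P) : G) * ((B * A : P) : G)⁻¹ = a * s * a⁻¹ * s⁻¹ := by
      change a * s * (s * a)⁻¹ = _
      group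
    rw [e]
    exact h.as
  have hBB : θ B * θ B = 1 := by
    rw [← map_mul, hθ]
    have e : ((B * B : P) : G) = s ^ 2 := by rw [pow_two]; rfl
    rw [e]
    exact h.ss
  -- the elements of `S`
  have hSel : ∀ x : P, (x : G) ∈ (S : Subgroup G) → cj (x : G) V₁ = V₁ → θ x = 1 ∨ θ x = (θ A)⁻¹ := by
    intro x hx hx1
    have hxK : (x : G) ∈ K := ⟨x.2, mem_normalizer_iff_cj.2 hx1⟩
    by_cases h1 : σ₁ ⟨x, hxK⟩ ^ 3 = 1
    · left
      rw [hθ]
      exact hSK ⟨x, hxK⟩ hx h1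
    · right
      rw [eq_inv_iff_mul_eq_one, ← map_mul, hθ]
      refine hSK (⟨x, hxK⟩ * ⟨a, haK⟩) (mul_mem hx h.aS) ?_
      rw [map_mul]
      exact s3_mul _ _ h1 ha1
  have hS' : ∀ x : P, (x : G) ∈ (S : Subgroup G) →
      θ x = 1 ∨ θ x = (θ A)⁻¹ ∨ θ x = θ B ∨ θ x = (θ A)⁻¹ * θ B := by
    intro x hx
    by_cases h1 : cj (x : G) V₁ = V₁
    · rcases hSel x hx h1 with h2 | h2
      · exact Or.inl h2
      · exact Or.inr (Or.inl h2)
    · have h2 : cj (x : G) V₂ = V₁ := ((h.perm x x.2).resolve_left fun h3 => h1 h3.1).2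
      have h3 : cj s V₁ = V₂ := ((h.perm s hsP).resolve_left fun h3 => h.sV₁ h3.1).1
      have h4 : cj ((x * B : P) : G) V₁ = V₁ := by
        change cj ((x : G) * s) V₁ = V₁
        rw [← cj_cj, h3, h2]
      have h5 := hSel (x * B) (mul_mem hx h.sS) h4
      rw [map_mul] at h5
      rcases h5 with h5 | h5
      · right; right; left
        calc θ x = θ x * (θ B * θ B) := by rw [hBB, mul_one]
          _ = (θ x * θ B) * θ B := by rw [mul_assoc]
          _ = θ B := by rw [h5, one_mul]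
      · right; right; right
        calc θ x = θ x * (θ B * θ B) := by rw [hBB, mul_one]
          _ = (θ x * θ B) * θ B := by rw [mul_assoc]
          _ = _ := by rw [h5]
  have cAB' : (θ A)⁻¹ * θ B = θ B * (θ A)⁻¹ := by
    rw [inv_mul_eq_iff_eq_mul, ← mul_assoc, cAB, mul_inv_cancel_right]
  -- the maximal subgroup
  obtain ⟨M, hMP, hM⟩ := h.sit.par.exists_max
  let L (t : P) : Subgroup G := ((centralizer ({θ t} : Set (MulAut V))).comap θ).map P.subtype
  have mL : ∀ t x : P, (x : G) ∈ L t ↔ θ x * θ t = θ t * θ x := by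
    intro t x
    constructor
    · rintro ⟨y, hy, e⟩
      have e' : y = x := Subtype.ext e
      subst e'
      exact mem_centralizer_singleton_iff.mp hy
    · intro h1
      exact ⟨x, mem_centralizer_singleton_iff.mpr h1, rfl⟩
  have LM : ∀ t : P, (t : G) ∈ (S : Subgroup G) → (t : G) ∉ centralizer (V : Set G) →
      θ A * θ t = θ t * θ A → θ B * θ t = θ t * θ B → L t ≤ M := by
    intro t htS htC h1 h2
    have hLP : L t ≤ P := map_subtype_le _
    refine hM _ ?_ (lt_of_le_of_ne hLP ?_)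
    · intro x hx
      refine (mL t ⟨x, hSP hx⟩).mpr ?_
      have h1' : (θ A)⁻¹ * θ t = θ t * (θ A)⁻¹ := by
        rw [inv_mul_eq_iff_eq_mul, ← mul_assoc, h1, mul_inv_cancel_right]
      rcases hS' ⟨x, hSP hx⟩ hx with h3 | h3 | h3 | h3
      · rw [h3, one_mul, mul_one]
      · rw [h3, h1']
      · rw [h3, h2]
      · rw [h3, mul_assoc, h2, ← mul_assoc, h1', mul_assoc]
    · intro h3
      refine central_false h.sit htS htC fun p hp => ?_
      have h4 : (p : G) ∈ L t := by rw [h3]; exact hp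
      have h5 := (mL t ⟨p, hp⟩).mp h4
      have h6 : θ (⟨p, hp⟩ * t) = θ (t * ⟨p, hp⟩) := by rw [map_mul, map_mul, h5]
      rw [hθ'] at h6
      have e : ((⟨p, hp⟩ * t : P) : G) * ((t * ⟨p, hp⟩ : P) : G)⁻¹ = p * t * p⁻¹ * (t : G)⁻¹ := by
        change p * t * (t * p)⁻¹ = _
        group
      rwa [e] at h6
  have hSM : (S : Subgroup G) ≤ M := by
    have hA1 : θ A ≠ 1 := fun h1 => h.aC ((hθ A).mp h1)
    have h1 := LM A h.aS h.aC rfl cAB.symm
    intro x hx
    apply h1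
    refine (mL A ⟨x, hSP hx⟩).mpr ?_
    rcases hS' ⟨x, hSP hx⟩ hx with h3 | h3 | h3 | h3
    · rw [h3, one_mul, mul_one]
    · rw [h3, inv_mul_cancel, mul_inv_cancel]
    · rw [h3, cAB]
    · rw [h3, cAB', mul_assoc, inv_mul_cancel, mul_one, ← mul_assoc, cAB, mul_assoc, mul_inv_cancel, mul_one]
  have hsC : s ∉ centralizer (V : Set G) := fun h1 =>
    h.sV₁ (cj_eq_of_mem_normalizer (centralizer_le_normalizer _ (centralizer_le hV1 h1)))
  have LB := LM B h.sS hsC cAB rfl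
  have LAB := LM (A * B) (mul_mem h.aS h.sS) (by
    intro h1
    have h2 : cj (a * s) V₁ = V₁ :=
      cj_eq_of_mem_normalizer (centralizer_le_normalizer _ (centralizer_le hV1 h1))
    rw [← cj_cj] at h2
    have h3 : cj a⁻¹ (cj a (cj s V₁)) = cj a⁻¹ V₁ := by rw [h2]
    rw [cj_inv_cj] at h3
    apply h.sV₁
    rw [h3]
    conv_lhs => rw [← h.aV₁, cj_inv_cj]) (by rw [map_mul, mul_assoc, ← cAB])
    (by rw [map_mul, ← mul_assoc, ← cAB])
  -- elements of `K` of order 3 modulo `C(V)`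
  have hCM : ∀ x : G, x ∈ P → x ∈ centralizer (V : Set G) → x ∈ M := by
    intro x hx hxC
    refine LB ((mL B ⟨x, hx⟩).mpr ?_)
    have h1 : θ ⟨x, hx⟩ = 1 := (hθ _).mpr hxC
    rw [h1, one_mul, mul_one]
  have hK3 : ∀ x : K, σ₁ x ^ 3 = 1 → (x : G) ∈ M := by
    intro x hx1
    have hx2 := (hiff x).mp hx1
    have hxP : (x : G) ∈ P := x.2.1
    set X : P := ⟨x, hxP⟩ with hX
    have hY : s * (x : G) * s⁻¹ ∈ K := by
      refine ⟨P.mul_mem (P.mul_mem hsP hxP) (P.inv_mem hsP), mem_normalizer_iff_cj.2 ?_⟩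
      have h3 := (h.perm s hsP).resolve_left fun h3 => h.sV₁ h3.1
      have h4 : cj s⁻¹ V₁ = V₂ := by rw [← h3.2, cj_inv_cj]
      rw [← cj_cj, ← cj_cj, h4, hK2 x hxP (mem_normalizer_iff_cj.1 x.2.2), h3.2]
    set Y : P := B * X * B⁻¹ with hYd
    have hx3 : ((x : G)) ^ 3 ∈ centralizer (V : Set G) := by
      refine hcV _ ?_ ?_
      · have : (x : G) ^ 3 = ((x ^ 3 : K) : G) := rfl
        rw [this, ← s1, map_pow, hx1]
      · have : (x : G) ^ 3 = ((x ^ 3 : K) : G) := rfl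
        rw [this, ← s2, map_pow, hx2]
    have hX3 : θ X ^ 3 = 1 := by
      rw [← map_pow, hθ]
      exact hx3
    have hY3' : θ Y ^ 3 = 1 := by
      rw [hYd, map_mul, map_mul, map_inv, conj_pow, hX3, mul_one, mul_inv_cancel]
    have hy3 : (s * (x : G) * s⁻¹) ^ 3 ∈ centralizer (V : Set G) := by
      rw [← map_pow, hθ] at hY3'
      exact hY3'
    have hy1 : σ₁ ⟨s * (x : G) * s⁻¹, hY⟩ ^ 3 = 1 := by
      rw [← map_pow, s1]
      exact centralizer_le hV1 hy3
    have hy2 := (hiff _).mp hy1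
    -- `X`, `Y` commute
    have cXY : θ X * θ Y = θ Y * θ X := by
      have h1 := s3_comm _ _ hx1 hy1
      have h2 := s3_comm _ _ hx2 hy2
      rw [← mul_inv_eq_one, ← map_mul, ← map_mul, ← map_inv, ← map_mul] at h1 h2
      rw [← mul_inv_eq_one, ← map_mul, ← map_mul, ← map_inv, ← map_mul, hθ]
      exact hcV _ ((s1 _).mp h1) ((s2 _).mp h2)
    -- `A` inverts
    have inv1 : ∀ z : K, σ₁ z ^ 3 = 1 → ∀ Z : P, (Z : G) = z → θ A * θ Z = (θ Z)⁻¹ * θ A := by
      intro z hz1 Z hZ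
      have hz2 := (hiff z).mp hz1
      have h1 := s3_inv _ _ hz1 ha1
      have h2 := s3_inv _ _ hz2 ha2
      rw [← map_mul, ← map_inv, ← map_mul, ← map_mul] at h1 h2
      have h3 : θ (A * Z * A⁻¹ * Z) = 1 := by
        rw [hθ]
        have e : ((A * Z * A⁻¹ * Z : P) : G) = ((⟨a, haK⟩ * z * ⟨a, haK⟩⁻¹ * z : K) : G) := by
          change a * (Z : G) * a⁻¹ * (Z : G) = a * (z : G) * a⁻¹ * (z : G)
          rw [hZ]
        rw [e]
        exact hcV _ ((s1 _).mp h1) ((s2 _).mp h2)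
      rw [map_mul, map_mul, map_mul, map_inv, mul_eq_one_iff_eq_inv, mul_inv_eq_iff_eq_mul] at h3
      exact h3
    have iX := inv1 x hx1 X rfl
    have iY := inv1 ⟨_, hY⟩ hy1 Y rfl
    have bX : θ B * θ X = θ Y * θ B := by
      rw [hYd, map_mul, map_mul, map_inv, inv_mul_cancel_right]
    have bY : θ B * θ Y = θ X * θ B := by
      have h1 : (θ B)⁻¹ = θ B := inv_eq_of_mul_eq_one_left hBB
      rw [hYd, map_mul, map_mul, map_inv, ← mul_assoc, ← mul_assoc, hBB, one_mul, h1]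
    have m1 : ((X * Y : P) : G) ∈ M := by
      refine LB ((mL B _).mpr ?_)
      rw [map_mul, mul_assoc, ← bX, ← mul_assoc, ← bY, mul_assoc, cXY]
    have bY' : θ B * (θ Y)⁻¹ = (θ X)⁻¹ * θ B := by
      rw [← mul_right_inj (θ X), ← mul_assoc, ← bY, mul_assoc, mul_inv_cancel, mul_inv_cancel_left, mul_one]
    have iX' : θ A * (θ X)⁻¹ = θ X * θ A := by
      rw [← mul_left_inj (θ X), mul_assoc, inv_mul_cancel, mul_one, mul_assoc, iX, mul_inv_cancel_left]
    have cXY' : (θ X)⁻¹ * θ Y = θ Y * (θ X)⁻¹ := by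
      rw [inv_mul_eq_iff_eq_mul, ← mul_assoc, cXY, mul_inv_cancel_right]
    have m2 : ((X * Y⁻¹ : P) : G) ∈ M := by
      refine LAB ((mL (A * B) _).mpr ?_)
      rw [map_mul, map_mul, map_inv]
      have e1 : θ A * θ B * (θ X * (θ Y)⁻¹) = θ X * (θ Y)⁻¹ * (θ A * θ B) := by
        calc θ A * θ B * (θ X * (θ Y)⁻¹) = θ A * (θ B * θ X) * (θ Y)⁻¹ := by group
          _ = θ A * θ Y * (θ B * (θ Y)⁻¹) := by rw [bX]; group
          _ = (θ Y)⁻¹ * (θ A * (θ X)⁻¹) * θ B := by rw [iY, bY']; group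
          _ = (θ Y)⁻¹ * θ X * (θ A * θ B) := by rw [iX']; group
          _ = θ X * (θ Y)⁻¹ * (θ A * θ B) := by
            congr 1
            rw [inv_mul_eq_iff_eq_mul, ← mul_assoc, ← cXY, mul_inv_cancel_right]
      exact e1.symm
    have m3 : ((X ^ 2 : P) : G) ∈ M := by
      have e : θ (X ^ 2) = θ (X * Y * (X * Y⁻¹)) := by
        rw [map_pow, map_mul θ (X * Y), map_mul θ X Y, map_mul θ X Y⁻¹, map_inv]
        calc θ X ^ 2 = θ X * (θ X * θ Y) * (θ Y)⁻¹ := by rw [mul_assoc, mul_inv_cancel_right, pow_two]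
          _ = θ X * (θ Y * θ X) * (θ Y)⁻¹ := by rw [cXY]
          _ = θ X * θ Y * (θ X * (θ Y)⁻¹) := by simp only [mul_assoc]
      rw [hθ'] at e
      have h1 := hCM _ (P.mul_mem (X ^ 2 : P).2 (P.inv_mem (X * Y * (X * Y⁻¹) : P).2)) e
      have h2 := M.mul_mem h1 (M.mul_mem m1 m2)
      have e2 : ((X ^ 2 : P) : G) * ((X * Y * (X * Y⁻¹) : P) : G)⁻¹ * (((X * Y : P) : G) * ((X * Y⁻¹ : P) : G)) =
          ((X ^ 2 : P) : G) := by
        have e3 : ((X * Y * (X * Y⁻¹) : P) : G) = ((X * Y : P) : G) * ((X * Y⁻¹ : P) : G) := rfl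
        rw [e3, inv_mul_cancel_right]
      rwa [e2] at h2
    have m4 : (x : G) ^ 3 ∈ M := hCM _ (pow_mem hxP 3) hx3
    have e : (x : G) = (x : G) ^ 3 * (((X ^ 2 : P) : G))⁻¹ := by
      change (x : G) = (x : G) ^ 3 * ((x : G) ^ 2)⁻¹
      group
    rw [e]
    exact M.mul_mem m4 (M.inv_mem m3)
  -- the end
  apply hMP.not_ge
  intro p hp
  obtain ⟨k, hk, hk1, x, hx, rfl⟩ := h.dec p hp
  refine M.mul_mem ?_ (hSM hx)
  have hkK : k ∈ K := ⟨hk, mem_normalizer_iff_cj.2 hk1⟩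
  by_cases h1 : σ₁ ⟨k, hkK⟩ ^ 3 = 1
  · exact hK3 ⟨k, hkK⟩ h1
  · have h2 := s3_mul _ _ h1 ha1
    rw [← map_mul] at h2
    have h3 := hK3 _ h2
    have e : k = (((⟨k, hkK⟩ * ⟨a, haK⟩ : K) : G)) * a⁻¹ := by
      change k = k * a * a⁻¹
      group
    rw [e]
    exact M.mul_mem h3 (M.inv_mem (hSM h.aS))

end Cfsg.Agent.Omega.NO1.WRF.Four

end
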