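import Cfsg.Agent.Mrg.Omega.NO1.WRF.IndecFlat
import Cfsg.Agent.Mrg.Omega.OmThm.NoOv
import Cfsg.Agent.Mrg.Omega.NOne.LemmaT
import Cfsg.Agent.Omega.NO1.WRF.Orbit
import Cfsg.Agent.Mrg.Omega.FrameI
import Cfsg.Agent.Mrg.Omega.NO1.WRF.SingleFam
import Cfsg.Agent.Mrg.Omega.NO1.JOff
import Cfsg.Agent.Mrg.Omega.EH3.Clif.Comp

section


/-!
# (IRR) (bb OMEGA #16754, helper2; referee #16960)

`V = V_P`, `FlatM V E F W` with `|V : E| < |E : F|`, `W` a 2-subgroup of `P`, `Z = Ω₁(Z(S)) ≤ F`;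
`V₁ = [V, O²(P)]`.

* `FDat.le_of` : every `P`-invariant `1 ≠ V' ≤ V` contains `V₁`; so `V₁` is an irreducible `P`-module;
* `FDat.sup_eq` : `V = V₁ Z`;
* `FDat.sit1`, `FDat.flat1` : `Sit`, `FlatM` for `V₁`;
* `FDat.irr_K` : `V₁` is an irreducible module for `K = ⟨W^P⟩` if `V ≰ O₂(C_G(FF))`, `F ≤ FF`.
-/

set_option autoImplicit false
set_option linter.unusedSectionVars false

namespace Cfsg.Agent.Omega.NO1.WRF.Irr

open Subgroup Cfsg Cfsg.Agent.ZN Cfsg.Agent.ZN.ChoiceBase Cfsg.Agent.Omega.MinPar Cfsg.Agent.Omega.Frame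
open Cfsg.Agent.Omega.NO1 Cfsg.Agent.Omega.NO1.WRF.Single Cfsg.Agent.Omega.NO1.WRF.Indec
open Cfsg.Agent.MinSimple.VModule (oddGen oddGen_le_of_sup oddGen_le le_normalizer_oddGen)
open scoped commutatorElement

universe u

variable {G : Type u} [Group G] [Finite G]

/-- `V₁ = [V_P, O²(P)]` -/
def V1 (S : Sylow 2 G) (P : Subgroup G) : Subgroup G := ⁅zl (S : Subgroup G) P, oddGen P⁆

/-- The data of (IRR). -/
structure FDat (S : Sylow 2 G) (P E F W : Subgroup G) : Prop where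
  cfg : Cfg S P
  flat : FlatM (zl (S : Subgroup G) P) E F W
  lt : E.relIndex (zl (S : Subgroup G) P) < F.relIndex E
  WP : W ≤ P
  W2 : IsPGroup 2 W
  Z_le : zc (S : Subgroup G) ≤ F

/-- `|E : F| ≤ |W : W ∩ C|` if `C` centralises `V`. -/
theorem relIndex_le_of_flat {V E F W C : Subgroup G} (h : FlatM V E F W) (hc : V ≤ centralizer (V : Set G))
    (hC : C ≤ centralizer (V : Set G)) : F.relIndex E ≤ C.relIndex W := by
  obtain ⟨w, hw, hwE⟩ := SetLike.not_le_iff_exists.1 h.ne'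
  -- a surjection `W / (W ∩ C) → E / F`
  have hsurj : ∀ e : E, ∃ s : W, (w⁻¹ * (s * w * (s : G)⁻¹))⁻¹ * e ∈ F := by
    intro e
    obtain ⟨s, hs, f, hf, he⟩ := h.reg w hw hwE e e.2
    exact ⟨⟨s, hs⟩, by rw [he]; simpa [mul_assoc] using hf⟩
  choose σ hσ using hsurj
  have hF : ∀ f ∈ F, ∀ v ∈ V, f * v = v * f := fun f hf v hv =>
    (mem_centralizer_iff.1 (hc (h.F_eq ▸ hf : f ∈ V ⊓ centralizer (W : Set G)).1) v hv).symm
  let φ : E → W ⧸ C.subgroupOf W := fun e => (σ e : W ⧸ C.subgroupOf W)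
  have hφ : ∀ e e' : E, φ e = φ e' → (e : G)⁻¹ * e' ∈ F := by
    intro e e' hee
    have h1 : (σ e)⁻¹ * σ e' ∈ C.subgroupOf W := QuotientGroup.eq.mp hee
    have h2 : ((σ e : G))⁻¹ * (σ e' : G) ∈ C := h1
    have h3 := mem_centralizer_iff.1 (hC h2) w hw
    have h4 : (σ e : G) * w * (σ e : G)⁻¹ = (σ e' : G) * w * (σ e' : G)⁻¹ := by
      have h5 : (σ e : G) * (w * ((σ e : G)⁻¹ * (σ e' : G))) * (σ e' : G)⁻¹ =
          (σ e : G) * ((σ e : G)⁻¹ * (σ e' : G) * w) * (σ e' : G)⁻¹ := by rw [h3]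
      calc (σ e : G) * w * (σ e : G)⁻¹ = (σ e : G) * (w * ((σ e : G)⁻¹ * (σ e' : G))) * (σ e' : G)⁻¹ := by group
        _ = (σ e : G) * ((σ e : G)⁻¹ * (σ e' : G) * w) * (σ e' : G)⁻¹ := h5
        _ = (σ e' : G) * w * (σ e' : G)⁻¹ := by group
    have h6 := hσ e
    have h7 := hσ e'
    rw [h4] at h6
    have h8 := F.mul_mem (F.inv_mem h6) h7
    have e1 : ((w⁻¹ * ((σ e' : G) * w * (σ e' : G)⁻¹))⁻¹ * (e : G))⁻¹ * ((w⁻¹ * ((σ e' : G) * w * (σ e' : G)⁻¹))⁻¹ * e')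
        = (e : G)⁻¹ * e' := by group
    rwa [e1] at h8
  let ψ : E ⧸ F.subgroupOf E → W ⧸ C.subgroupOf W := fun q => φ q.out
  have hψ : Function.Injective ψ := by
    intro q q' hq
    have h1 := hφ _ _ hq
    have h2 : ((q.out : E) : E ⧸ F.subgroupOf E) = ((q'.out : E) : E ⧸ F.subgroupOf E) := QuotientGroup.eq.mpr h1
    rwa [QuotientGroup.out_eq', QuotientGroup.out_eq'] at h2
  exact Nat.card_le_card_of_injective ψ hψ

theorem relIndex_sup_of_norm {H N : Subgroup G} (h : H ≤ normalizer (N : Set G)) :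
    N.relIndex (H ⊔ N) = N.relIndex H := by
  have hN : (N.subgroupOf (H ⊔ N)).Normal :=
    normal_subgroupOf_of_le_normalizer (sup_le h le_normalizer)
  have h1 := relIndex_sup_right (H.subgroupOf (H ⊔ N)) (N.subgroupOf (H ⊔ N))
  rw [← Subgroup.subgroupOf_sup le_sup_left le_sup_right, Subgroup.subgroupOf_self,
    Subgroup.relIndex_subgroupOf le_sup_left, relIndex_top_right] at h1
  exact h1

namespace FDat

variable {S : Sylow 2 G} {P E F W FF : Subgroup G} (h : FDat S P E F W)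
include h

theorem F_le_V : F ≤ zl (S : Subgroup G) P := h.flat.F_le

theorem E_le_V : E ≤ zl (S : Subgroup G) P := h.flat.le

theorem F_le_E : F ≤ E := by
  obtain ⟨w, hw, hwE⟩ := SetLike.not_le_iff_exists.1 h.flat.ne'
  obtain ⟨e, he, heF⟩ := SetLike.not_le_iff_exists.1 h.flat.ne
  by_contra hcon
  obtain ⟨f, hf, hfE⟩ := SetLike.not_le_iff_exists.1 hcon
  apply heF
  obtain ⟨s, hs, f', hf', he'⟩ := h.flat.reg f (h.F_le_V hf) hfE e he
  have h1 := h.flat.F_cent hf hs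
  rw [he', h1]
  simpa using hf'

theorem syl : ChoiceSit.Syl (S : Subgroup G) P :=
  ⟨h.cfg.S_le, S.isPGroup', fun _ _ hR hSR => S.is_maximal' hR hSR⟩

theorem V_comm' : ∀ x ∈ zl (S : Subgroup G) P, ∀ y ∈ zl (S : Subgroup G) P, x * y = y * x :=
  fun x hx _ hy => mem_centralizer_iff.1 (h.cfg.V_comm hy) x hx

theorem V_sq' : ∀ x ∈ zl (S : Subgroup G) P, x * x = 1 := fun x hx => by
  rw [← pow_two]; exact h.cfg.V_sq x hx

theorem relIndex_le : F.relIndex E ≤ (o2 P).relIndex W :=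
  relIndex_le_of_flat h.flat h.cfg.V_comm h.cfg.sit.o2_le

/-- `[f, s] = 1` -/
theorem comm_F {f s : G} (hf : f ∈ F) (hs : s ∈ W) : f * s * f⁻¹ * s⁻¹ = 1 := by
  have h1 := h.flat.F_cent hf hs
  have h2 : s * f = f * s := by
    calc s * f = s * f * s⁻¹ * s := by group
      _ = f * s := by rw [h1]
  rw [← h2]
  group

/-- **(IRR)** -/
theorem le_of {V' : Subgroup G} (hV' : V' ≤ zl (S : Subgroup G) P) (hn : P ≤ normalizer (V' : Set G))
    (hne : V' ≠ ⊥) : V1 S P ≤ V' := by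
  by_contra hcon
  have hPV : P ≤ normalizer (zl (S : Subgroup G) P : Set G) := h.cfg.sit.norm
  have hWc : ∀ s ∈ W, ∀ v ∈ V', v * s * v⁻¹ * s⁻¹ ∈ V' := by
    intro s hs v hv
    have h1 := (mem_normalizer_iff.mp (hn (h.WP hs)) v⁻¹).mp (V'.inv_mem hv)
    have e : v * s * v⁻¹ * s⁻¹ = v * (s * v⁻¹ * s⁻¹) := by group
    rw [e]
    exact V'.mul_mem hv h1
  -- `O²(P)` acts nontrivially on `V / V'`
  have hnt : ∃ c ∈ zl (S : Subgroup G) P, ∃ x ∈ oddGen P, c * x * c⁻¹ * x⁻¹ ∉ V' := by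
    by_contra hc
    push Not at hc
    apply hcon
    rw [V1, commutator_le]
    intro c hc' x hx
    exact hc c hc' x hx
  have hkey : ∀ K : Subgroup G, V' ≤ K → K ≤ zl (S : Subgroup G) P →
      (∀ b ∈ K, ∀ s ∈ W, b * s * b⁻¹ * s⁻¹ ∈ V') → (o2 P).relIndex W ≤ K.relIndex (zl (S : Subgroup G) P) := by
    intro K hK1 hK2 hK3
    exact NoOvQ.noOvQ h.syl h.cfg.par.toIsMinPar h.V_comm' h.V_sq' hK1 hK2 le_rfl hn hPV hnt h.WP h.W2
      h.flat.ab h.flat.inv hK3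
  by_cases hVE : V' ≤ E
  · -- `V' ≤ E`
    have hnt' : ∃ c ∈ V', ∃ x ∈ oddGen P, c * x * c⁻¹ * x⁻¹ ∉ (⊥ : Subgroup G) := by
      by_contra hc
      push Not at hc
      apply hne
      rw [eq_bot_iff, ← h.cfg.one.cen]
      refine le_inf hV' fun v hv => mem_centralizer_iff.mpr fun x hx => ?_
      have h1 := mem_bot.mp (hc v hv x hx)
      have h2 : v * x = x * v := by
        calc v * x = (v * x * v⁻¹ * x⁻¹) * (x * v) := by group
          _ = x * v := by rw [h1, one_mul]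
      exact h2.symm
    have h1 : (o2 P).relIndex W ≤ (V' ⊓ F).relIndex V' := by
      refine NoOvQ.noOvQ h.syl h.cfg.par.toIsMinPar h.V_comm' h.V_sq' bot_le inf_le_left hV' ?_ hn hnt' h.WP h.W2
        (fun s hs t ht v hv => h.flat.ab s hs t ht v (hV' hv)) (fun s hs v hv => h.flat.inv s hs v (hV' hv)) ?_
      · intro x _
        rw [mem_normalizer_iff]
        intro y
        rw [mem_bot, mem_bot]
        constructor
        · rintro rfl; group
        · intro h1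
          have : y = x⁻¹ * (x * y * x⁻¹) * x := by group
          rw [this, h1]; group
      · intro b hb s hs
        rw [h.comm_F hb.2 hs]
        exact one_mem _
    rw [inf_relIndex_left] at h1
    -- `|V' : V' ∩ F| = |V' F : F|`
    have hFE := h.F_le_E
    have hVF : V' ⊔ F ≤ E := sup_le hVE hFE
    have hnF : V' ≤ normalizer (F : Set G) := by
      refine le_trans ?_ (centralizer_le_normalizer _)
      exact hV'.trans (h.cfg.V_comm.trans (centralizer_le h.F_le_V))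
    have h2 : F.relIndex (V' ⊔ F) = F.relIndex V' := relIndex_sup_of_norm hnF
    have h3 : F.relIndex (V' ⊔ F) * (V' ⊔ F).relIndex E = F.relIndex E := relIndex_mul_relIndex F _ E le_sup_right hVF
    have h4 : (V' ⊔ F).relIndex E = 1 := by
      have h5 := h.relIndex_le
      have hpos : 0 < (V' ⊔ F).relIndex E := Nat.pos_of_ne_zero Subgroup.index_ne_zero_of_finite
      have hpos' : 0 < F.relIndex (V' ⊔ F) := Nat.pos_of_ne_zero Subgroup.index_ne_zero_of_finite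
      rw [← h3, h2] at h5
      have h6 : F.relIndex V' * (V' ⊔ F).relIndex E ≤ F.relIndex V' := h5.trans h1
      rw [h2] at hpos'
      have h7 : (V' ⊔ F).relIndex E ≤ 1 := by
        by_contra hlt
        push Not at hlt
        have := Nat.mul_lt_mul_of_pos_left hlt hpos'
        omega
      omega
    have hEV : E ≤ V' ⊔ F := relIndex_eq_one.1 h4
    have h5 := hkey E hVE h.E_le_V (by
      intro b hb s hs
      obtain ⟨v, hv, f, hf, rfl⟩ := exists_mul_of_mem_sup h.cfg.V_comm hV' h.F_le_V (hEV hb)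
      have h6 := h.comm_F hf hs
      have e : v * f * s * (v * f)⁻¹ * s⁻¹ = v * (f * s * f⁻¹ * s⁻¹) * (s * v⁻¹ * s⁻¹) := by group
      rw [e, h6, mul_one]
      have e2 : v * (s * v⁻¹ * s⁻¹) = v * s * v⁻¹ * s⁻¹ := by group
      rw [e2]
      exact hWc s hs v hv)
    exact absurd (lt_of_lt_of_le h.lt (h.relIndex_le.trans h5)) (lt_irrefl _)
  · -- `V' ≰ E`
    obtain ⟨v, hv, hvE⟩ := SetLike.not_le_iff_exists.1 hVE
    have hEK : E ≤ V' ⊔ F := by
      intro e he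
      obtain ⟨s, hs, f, hf, he'⟩ := h.flat.reg v (hV' hv) hvE e he
      rw [he']
      refine mul_mem_sup ?_ hf
      exact V'.mul_mem (V'.inv_mem hv) ((mem_normalizer_iff.mp (hn (h.WP hs)) v).mp hv)
    have h1 := hkey (V' ⊔ F) le_sup_left (sup_le hV' h.F_le_V) (by
      intro b hb s hs
      obtain ⟨v, hv, f, hf, rfl⟩ := exists_mul_of_mem_sup h.cfg.V_comm hV' h.F_le_V hb
      have h6 := h.comm_F hf hs
      have e : v * f * s * (v * f)⁻¹ * s⁻¹ = v * (f * s * f⁻¹ * s⁻¹) * (s * v⁻¹ * s⁻¹) := by group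
      rw [e, h6, mul_one]
      have e2 : v * (s * v⁻¹ * s⁻¹) = v * s * v⁻¹ * s⁻¹ := by group
      rw [e2]
      exact hWc s hs v hv)
    have h2 : (V' ⊔ F).relIndex (zl (S : Subgroup G) P) ≤ E.relIndex (zl (S : Subgroup G) P) :=
      relIndex_le_of_le_left hEK Subgroup.index_ne_zero_of_finite
    exact absurd (lt_of_lt_of_le h.lt (h.relIndex_le.trans (h1.trans h2))) (lt_irrefl _)

theorem V1_le : V1 S P ≤ zl (S : Subgroup G) P := by
  rw [V1, commutator_le]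
  intro v hv x hx
  have h1 := (mem_normalizer_iff.mp (h.cfg.sit.norm (oddGen_le P hx)) v⁻¹).mp (inv_mem hv)
  have e : ⁅v, x⁆ = v * (x * v⁻¹ * x⁻¹) := by rw [commutatorElement_def]; group
  rw [e]
  exact mul_mem hv h1

/-- `P` normalises `V₁` -/
theorem P_norm_V1 : P ≤ normalizer (V1 S P : Set G) := by
  intro p hp
  refine mem_normalizer_of_cj_le ?_
  rw [V1, cj, Subgroup.map_commutator]
  exact commutator_mono (cj_eq_of_mem_normalizer (h.cfg.sit.norm hp)).le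
    (cj_eq_of_mem_normalizer (le_normalizer_oddGen P hp)).le

theorem V1_ne : V1 S P ≠ ⊥ := by
  intro h0
  have h1 : zl (S : Subgroup G) P ≤ centralizer (oddGen P : Set G) := by
    rw [V1, commutator_eq_bot_iff_le_centralizer] at h0
    exact h0
  have h2 := h.cfg.one.cen
  rw [inf_eq_left.2 h1] at h2
  have h3 := h.flat.ne'
  rw [h2] at h3
  exact h3 bot_le

/-- `V = V₁ Z` -/
theorem sup_eq : V1 S P ⊔ zc (S : Subgroup G) = zl (S : Subgroup G) P := by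
  refine le_antisymm (sup_le h.V1_le h.cfg.Z_le_V) ?_
  -- `O²(P)` centralises `V / V₁`
  have hodd : ∀ x ∈ oddGen P, ∀ v ∈ zl (S : Subgroup G) P, x * v * x⁻¹ * v⁻¹ ∈ V1 S P := by
    intro x hx v hv
    have h1 : ⁅v, x⁆ ∈ V1 S P := commutator_mem_commutator hv hx
    have e : x * v * x⁻¹ * v⁻¹ = ⁅v, x⁆⁻¹ := by rw [commutatorElement_def]; group
    rw [e]
    exact inv_mem h1
  have hP : oddGen P ⊔ (S : Subgroup G) = P :=
    NoFF.LinesPlug.oddGen_sup h.cfg.S_le (MinSimple.Basic.not_dvd_relIndex S h.cfg.S_le)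
  have hdec : ∀ p ∈ P, ∃ x ∈ oddGen P, ∃ s ∈ (S : Subgroup G), x * s = p := by
    intro p hp
    have h1 : p ∈ (((S : Subgroup G) ⊔ oddGen P : Subgroup G) : Set G) := by
      rw [sup_comm, hP]; exact hp
    have hn := h.cfg.S_le.trans (le_normalizer_oddGen P)
    rw [coe_mul_of_left_le_normalizer_right _ _ hn] at h1
    obtain ⟨s, hs, k, hk, rfl⟩ := h1
    refine ⟨s * k * s⁻¹, (mem_normalizer_iff.mp (hn hs) k).mp hk, s, hs, ?_⟩
    change s * k * s⁻¹ * s = s * k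
    group
  refine h.cfg.sit.gen _ fun p hp z hzV hz => ?_
  obtain ⟨x, hx, s, hs, rfl⟩ := hdec p hp
  have h1 : s * z * s⁻¹ = z := by
    have h0 := (ChoiceBase.mem_zc.1 hz).2.2 s hs
    calc s * z * s⁻¹ = z * s * s⁻¹ := by rw [h0]
      _ = z := by group
  have e : x * s * z * (x * s)⁻¹ = (x * z * x⁻¹ * z⁻¹) * z := by
    calc x * s * z * (x * s)⁻¹ = x * (s * z * s⁻¹) * x⁻¹ := by group
      _ = (x * z * x⁻¹ * z⁻¹) * z := by rw [h1]; group
  rw [e]
  exact mul_mem_sup (hodd x hx z hzV) hz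

/-- `V₁` is an irreducible `P`-module. -/
theorem irr {V' : Subgroup G} (hV' : V' ≤ V1 S P) (hn : P ≤ normalizer (V' : Set G)) : V' = ⊥ ∨ V' = V1 S P := by
  by_cases hne : V' = ⊥
  · exact Or.inl hne
  · exact Or.inr (le_antisymm hV' (h.le_of (hV'.trans h.V1_le) hn hne))

theorem V1_inf_zc : V1 S P ⊓ zc (S : Subgroup G) ≠ ⊥ := by
  obtain ⟨x, hx, hx1, hxS⟩ := NoFF.LinesPlug.exists_fixed S.isPGroup' (h.V1_le.trans h.cfg.V_le_S)
    (h.cfg.S_le.trans h.P_norm_V1) h.V1_ne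
  intro h0
  have h1 : x ∈ V1 S P ⊓ zc (S : Subgroup G) :=
    ⟨hx, ChoiceBase.mem_zc.2 ⟨h.cfg.V_le_S (h.V1_le hx), h.cfg.V_sq x (h.V1_le hx), hxS⟩⟩
  rw [h0, mem_bot] at h1
  exact hx1 h1

/-- the situation of `Single` for `V₁` -/
theorem sit1 : Sit S P (V1 S P) where
  char2 := h.cfg.ctx.char2
  par := h.cfg.par
  le := h.V1_le.trans h.cfg.V_le_S
  comm := h.V1_le.trans (h.cfg.V_comm.trans (centralizer_le h.V1_le))
  norm := h.P_norm_V1
  o2_le := h.cfg.sit.o2_le.trans (centralizer_le h.V1_le)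
  gen := fun X hX => by
    let Y : Subgroup G := ⨆ p ∈ P, cj p (V1 S P ⊓ zc (S : Subgroup G))
    have hYX : Y ≤ X := by
      refine iSup₂_le fun p hp => ?_
      rintro _ ⟨z, hz, rfl⟩
      exact hX p hp z hz.1 hz.2
    have hYV : Y ≤ V1 S P := by
      refine iSup₂_le fun p hp => ?_
      refine (cj_mono p inf_le_left).trans ?_
      exact (cj_eq_of_mem_normalizer (h.P_norm_V1 hp)).le
    have hYn : P ≤ normalizer (Y : Set G) := fun p hp => mem_normalizer_of_cj_le (cj_KW hp)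
    have hYne : Y ≠ ⊥ := by
      intro h0
      apply h.V1_inf_zc
      rw [eq_bot_iff, ← h0]
      exact le_KW
    have := (h.irr hYV hYn).resolve_left hYne
    rw [← this]
    exact hYX

/-- `FlatM` for `V₁` -/
theorem flat1 : FlatM (V1 S P) (E ⊓ V1 S P) (F ⊓ V1 S P) W where
  le := inf_le_right
  F_eq := by
    rw [h.flat.F_eq, inf_assoc, inf_comm _ (V1 S P), ← inf_assoc, inf_eq_right.2 h.V1_le]
  norm := fun s hs v hv => (mem_normalizer_iff.mp (h.P_norm_V1 (h.WP hs)) v).mp hv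
  VE := fun s hs v hv => ⟨h.flat.VE s hs v (h.V1_le hv), (V1 S P).mul_mem ((V1 S P).inv_mem hv)
    ((mem_normalizer_iff.mp (h.P_norm_V1 (h.WP hs)) v).mp hv)⟩
  EF := fun s hs v hv => ⟨h.flat.EF s hs v hv.1, (V1 S P).mul_mem ((V1 S P).inv_mem hv.2)
    ((mem_normalizer_iff.mp (h.P_norm_V1 (h.WP hs)) v).mp hv.2)⟩
  reg := fun w hw hwE e he => by
    have hwE' : w ∉ E := fun h1 => hwE ⟨h1, hw⟩
    obtain ⟨s, hs, f, hf, he'⟩ := h.flat.reg w (h.V1_le hw) hwE' e he.1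
    refine ⟨s, hs, f, ⟨hf, ?_⟩, he'⟩
    have h1 : w⁻¹ * (s * w * s⁻¹) ∈ V1 S P := mul_mem (inv_mem hw)
      ((mem_normalizer_iff.mp (h.P_norm_V1 (h.WP hs)) w).mp hw)
    have e1 : f = (w⁻¹ * (s * w * s⁻¹))⁻¹ * e := by rw [he']; group
    rw [e1]
    exact (V1 S P).mul_mem ((V1 S P).inv_mem h1) he.2
  ab := fun s hs t ht v hv => h.flat.ab s hs t ht v (h.V1_le hv)
  inv := fun s hs v hv => h.flat.inv s hs v (h.V1_le hv)
  ne := by
    intro hle
    apply h.flat.ne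
    intro e he
    have h1 : e ∈ V1 S P ⊔ zc (S : Subgroup G) := by rw [h.sup_eq]; exact h.E_le_V he
    obtain ⟨v, hv, z, hz, rfl⟩ := exists_mul_of_mem_sup h.cfg.V_comm h.V1_le h.cfg.Z_le_V h1
    have hzF := h.Z_le hz
    have h2 : v ∈ E := by
      have := E.mul_mem he (E.inv_mem (h.F_le_E hzF))
      rwa [mul_inv_cancel_right] at this
    exact F.mul_mem (hle ⟨h2, hv⟩).1 hzF
  ne' := by
    intro hle
    apply h.flat.ne'
    rw [← h.sup_eq]
    exact sup_le (hle.trans inf_le_left) (h.Z_le.trans h.F_le_E)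

theorem W_not_le : ¬ W ≤ centralizer (zl (S : Subgroup G) P : Set G) := by
  intro hc
  apply h.flat.ne
  refine h.E_le_V.trans ?_
  rw [h.flat.F_eq]
  exact le_inf le_rfl (Subgroup.le_centralizer_iff.mp hc)

theorem cen_KW1 : V1 S P ⊓ centralizer (KW P W : Set G) = ⊥ := by
  rw [eq_bot_iff, ← cen_KW h.cfg h.WP h.W2 h.W_not_le]
  exact inf_le_inf_right _ h.V1_le

/-- **`V₁` is an indecomposable module for `K = ⟨W^P⟩`** -/
theorem indec1 {X Y : Subgroup G} (hFF : F ≤ FF) (hFV : zl (S : Subgroup G) P ≤ centralizer (FF : Set G))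
    (hFc : FF ≤ centralizer (FF : Set G)) (hF2 : IsPGroup 2 FF)
    (hbad : ¬ zl (S : Subgroup G) P ≤ o2 (centralizer (FF : Set G))) (d : Indec.Dec (KW P W) (V1 S P) X Y) :
    X = ⊥ ∨ Y = ⊥ := by
  have hFo : FF ≤ o2 (centralizer (FF : Set G)) := le_o2 hFc hF2 (centralizer_le_normalizer _)
  refine indec_flat h.sit1 h.flat1 h.WP h.W2 h.cen_KW1 (inf_le_left.trans hFF) (h.V1_le.trans hFV) hFc hF2 ?_ ?_ d
  · exact inf_le_right.trans (h.Z_le.trans hFF)
  · intro h1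
    apply hbad
    rw [← h.sup_eq]
    exact sup_le h1 ((h.Z_le.trans hFF).trans hFo)

/-- **`V₁` is an irreducible module for `K = ⟨W^P⟩`** -/
theorem irr_K {X : Subgroup G} (hFF : F ≤ FF) (hFV : zl (S : Subgroup G) P ≤ centralizer (FF : Set G))
    (hFc : FF ≤ centralizer (FF : Set G)) (hF2 : IsPGroup 2 FF)
    (hbad : ¬ zl (S : Subgroup G) P ≤ o2 (centralizer (FF : Set G))) (hX : X ≤ V1 S P)
    (hn : KW P W ≤ normalizer (X : Set G)) : X = ⊥ ∨ X = V1 S P := by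
  by_cases hX0 : X = ⊥
  · exact Or.inl hX0
  right
  have hV1c := h.sit1.comm
  -- a minimal submodule
  obtain ⟨X₀, hmin⟩ := (Set.toFinite {Z : Subgroup G | KW P W ≤ normalizer (Z : Set G) ∧ Z ≠ ⊥ ∧ Z ≤ X}).exists_minimal
    ⟨X, hn, hX0, le_rfl⟩
  obtain ⟨⟨hn0, hne0, hle0⟩, hmin⟩ := hmin
  have hmin' : ∀ Z : Subgroup G, KW P W ≤ normalizer (Z : Set G) → Z ≤ X₀ → Z = ⊥ ∨ Z = X₀ := by
    intro Z hZn hZ
    by_cases hZ0 : Z = ⊥
    · exact Or.inl hZ0
    · exact Or.inr (le_antisymm hZ (hmin ⟨hZn, hZ0, hZ.trans hle0⟩ hZ))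
  have hX0V : X₀ ≤ V1 S P := hle0.trans hX
  have hconjn : ∀ p ∈ P, ∀ Z : Subgroup G, KW P W ≤ normalizer (Z : Set G) → KW P W ≤ normalizer (cj p Z : Set G) := by
    intro p hp Z hZ
    rw [← cj_normalizer, ← cj_KW_eq (W := W) hp]
    exact cj_mono p hZ
  have hinfn : ∀ Z Z' : Subgroup G, KW P W ≤ normalizer (Z : Set G) → KW P W ≤ normalizer (Z' : Set G) →
      KW P W ≤ normalizer ((Z ⊓ Z' : Subgroup G) : Set G) := by
    intro Z Z' h1 h2 k hk
    refine mem_normalizer_of_cj_le ?_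
    rw [cj_inf, cj_eq_of_mem_normalizer (h1 hk), cj_eq_of_mem_normalizer (h2 hk)]
  have hsupn : ∀ Z Z' : Subgroup G, KW P W ≤ normalizer (Z : Set G) → KW P W ≤ normalizer (Z' : Set G) →
      KW P W ≤ normalizer ((Z ⊔ Z' : Subgroup G) : Set G) := by
    intro Z Z' h1 h2 k hk
    refine mem_normalizer_of_cj_le ?_
    rw [cj, Subgroup.map_sup]
    exact sup_le_sup (cj_eq_of_mem_normalizer (h1 hk)).le (cj_eq_of_mem_normalizer (h2 hk)).le
  -- a maximal complement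
  obtain ⟨Y, hmax⟩ := (Set.toFinite {Z : Subgroup G | KW P W ≤ normalizer (Z : Set G) ∧ Z ≤ V1 S P ∧
    X₀ ⊓ Z = ⊥}).exists_maximal ⟨⊥, by
      refine ⟨?_, bot_le, inf_bot_eq _⟩
      intro k _
      exact mem_normalizer_of_cj_le (cj_bot k).le⟩
  obtain ⟨⟨hYn, hYV, hY0⟩, hmax⟩ := hmax
  have hsup : X₀ ⊔ Y = V1 S P := by
    refine le_antisymm (sup_le hX0V hYV) ?_
    have hT : ⨆ p ∈ P, cj p X₀ = V1 S P := by
      refine (h.irr ?_ fun p hp => mem_normalizer_of_cj_le (cj_KW hp)).resolve_left ?_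
      · refine iSup₂_le fun p hp => (cj_mono p hX0V).trans ?_
        exact (cj_eq_of_mem_normalizer (h.P_norm_V1 hp)).le
      · intro h0
        apply hne0
        rw [eq_bot_iff, ← h0]
        exact le_KW
    rw [← hT]
    refine iSup₂_le fun p hp => ?_
    have hcV : cj p X₀ ≤ V1 S P := by
      rw [← hT]; exact cj_le_KW hp
    by_contra hcon
    have hcn := hconjn p hp X₀ hn0
    have h1 : cj p X₀ ⊓ (X₀ ⊔ Y) = ⊥ := by
      have h2 := hmin' (cj p⁻¹ (cj p X₀ ⊓ (X₀ ⊔ Y))) (hconjn _ (inv_mem hp) _ (hinfn _ _ hcn (hsupn _ _ hn0 hYn))) (by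
        have := cj_mono p⁻¹ (inf_le_left : cj p X₀ ⊓ (X₀ ⊔ Y) ≤ cj p X₀)
        rwa [cj_cj, inv_mul_cancel, cj_one] at this)
      rcases h2 with h2 | h2
      · have := congrArg (cj p) h2
        rwa [cj_cj_inv, cj_bot] at this
      · exfalso
        have := congrArg (cj p) h2
        rw [cj_cj_inv] at this
        exact hcon (inf_eq_left.mp this)
    have h2 : X₀ ⊓ (Y ⊔ cj p X₀) = ⊥ := by
      rw [eq_bot_iff]
      rintro x ⟨hx, hx'⟩
      obtain ⟨y, hy, c, hc, rfl⟩ := exists_mul_of_mem_sup hV1c hYV hcV hx'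
      have h3 : c ∈ cj p X₀ ⊓ (X₀ ⊔ Y) := by
        refine ⟨hc, ?_⟩
        have e : c = y⁻¹ * (y * c) := by group
        rw [e]
        exact (X₀ ⊔ Y).mul_mem ((X₀ ⊔ Y).inv_mem ((le_sup_right : Y ≤ X₀ ⊔ Y) hy)) ((le_sup_left : X₀ ≤ X₀ ⊔ Y) hx)
      rw [h1, mem_bot] at h3
      subst h3
      change y * 1 ∈ _ at hx
      rw [mul_one] at hx ⊢
      rw [← hY0]
      exact ⟨hx, hy⟩
    have h3 := hmax ⟨hsupn _ _ hYn hcn, sup_le hYV hcV, h2⟩ le_sup_left
    exact hcon ((le_sup_right.trans h3).trans le_sup_right)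
  have hY := (h.indec1 hFF hFV hFc hF2 hbad ⟨hsup, hY0, hn0, hYn⟩).resolve_left hne0
  rw [hY, sup_bot_eq] at hsup
  exact le_antisymm hX (hsup ▸ hle0)

end FDat

end Cfsg.Agent.Omega.NO1.WRF.Irr

end

section


/-!
# TEXT B4 #15506, step (10): back to `V_P`

`Hyp V F` (THEOREM FLAT for the big module `V`), `V_P ≤ V`, `W = W_F ≤ S`, `V_P ≰ E_F`:

* `flat_of_hyp` : `FlatM V_P (V_P ∩ E_F) (V_P ∩ F) W_F`;
* `fdat_of_hyp` : `FDat S P (V_P ∩ E_F) (V_P ∩ F) W_F`, so (IRR) holds: `irr_of_hyp`, `irrK_of_hyp`.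
-/

set_option autoImplicit false
set_option linter.unusedSectionVars false

namespace Cfsg.Agent.Omega.NO1.WRF.Irr

open Subgroup Cfsg Cfsg.Agent.ZN Cfsg.Agent.ZN.ChoiceBase Cfsg.Agent.Omega.MinPar Cfsg.Agent.Omega.Frame
open Cfsg.Agent.Omega.NO1 Cfsg.Agent.Omega.NO1.WRF.Single Cfsg.Agent.Omega.NO1.WRF.Indec
open Cfsg.Agent.Omega.NOne.Flat (Hyp WW)
open Cfsg.Agent.Omega.NOne.NearFF (c c_def)

universe u

variable {G : Type u} [Group G] [Finite G] {S : Sylow 2 G} {P V F V₀ : Subgroup G}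

section

variable (H : Hyp V F)
include H

theorem hyp_VE {v s : G} (hv : v ∈ V) (hs : s ∈ WW V F) : v⁻¹ * (s * v * s⁻¹) ∈ NOne.Flat.EE V F := by
  have h1 := H.c_memE (inv_mem hv) hs
  have e : c v⁻¹ s = v⁻¹ * (s * v * s⁻¹) := by rw [c_def]; group
  rwa [e] at h1

theorem hyp_EF {v s : G} (hv : v ∈ NOne.Flat.EE V F) (hs : s ∈ WW V F) : v⁻¹ * (s * v * s⁻¹) ∈ F := by
  have h1 := H.comm_EW (inv_mem hv) hs
  have e : c v⁻¹ s = v⁻¹ * (s * v * s⁻¹) := by rw [c_def]; group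
  rwa [e] at h1

theorem hyp_fix {f v : G} (hf : f ∈ F) (hv : v ∈ V) : f * v * f⁻¹ = v := by
  rw [H.V_comm (H.F_le_V hf) hv, mul_inv_cancel_right]

theorem hyp_norm {v s : G} (hv : v ∈ V) (hs : s ∈ WW V F) : s * v * s⁻¹ ∈ V :=
  (mem_normalizer_iff.mp (H.W_norm_V hs) v).mp hv

/-- `E_F ≤ V₀ F` for `V₀ ≰ E_F` normalised by `W` -/
theorem hyp_EE_le (h0V : V₀ ≤ V) (hn : WW V F ≤ normalizer (V₀ : Set G)) (hnot : ¬ V₀ ≤ NOne.Flat.EE V F) :
    NOne.Flat.EE V F ≤ (V₀ ⊓ NOne.Flat.EE V F) ⊔ F := by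
  obtain ⟨w, hw, hwE⟩ := SetLike.not_le_iff_exists.1 hnot
  intro e he
  obtain ⟨s, hs, hse⟩ := H.surj (h0V hw) hwE he
  have h1 : c w s ∈ V₀ := by
    have h2 := (mem_normalizer_iff.mp (hn hs) w⁻¹).mp (inv_mem hw)
    have e1 : c w s = w * (s * w⁻¹ * s⁻¹) := by rw [c_def]; group
    rw [e1]
    exact V₀.mul_mem hw h2
  have e2 : e = c w s * (c w s * e⁻¹)⁻¹ := by
    have h3 : (c w s * e⁻¹)⁻¹ = e * (c w s)⁻¹ := by group
    rw [h3, H.V_comm he.1 (inv_mem (H.c_memV (h0V hw) hs))]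
    group
  rw [e2]
  exact mul_mem_sup ⟨h1, H.c_memE (h0V hw) hs⟩ (inv_mem hse)

/-- **(10)** -/
theorem flat_of_hyp (h0V : V₀ ≤ V) (hn : WW V F ≤ normalizer (V₀ : Set G)) (hnot : ¬ V₀ ≤ NOne.Flat.EE V F) :
    FlatM V₀ (V₀ ⊓ NOne.Flat.EE V F) (V₀ ⊓ F) (WW V F) where
  le := inf_le_left
  F_eq := by
    conv_lhs => rw [← H.cent_VW]
    rw [← inf_assoc, inf_eq_left.2 h0V]
  norm := fun s hs v hv => (mem_normalizer_iff.mp (hn hs) v).mp hv
  VE := fun s hs v hv => ⟨V₀.mul_mem (V₀.inv_mem hv) ((mem_normalizer_iff.mp (hn hs) v).mp hv),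
    hyp_VE H (h0V hv) hs⟩
  EF := fun s hs v hv => ⟨V₀.mul_mem (V₀.inv_mem hv.1) ((mem_normalizer_iff.mp (hn hs) v).mp hv.1),
    hyp_EF H hv.2 hs⟩
  reg := fun w hw hwE e he => by
    have hwE' : w ∉ NOne.Flat.EE V F := fun h1 => hwE ⟨hw, h1⟩
    have hwV := h0V hw
    have hw' : w⁻¹ ∉ NOne.Flat.EE V F := fun h1 => hwE' (by simpa using inv_mem h1)
    obtain ⟨s, hs, hse⟩ := H.surj (inv_mem hwV) hw' he.2
    have e1 : c w⁻¹ s = w⁻¹ * (s * w * s⁻¹) := by rw [c_def]; group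
    rw [e1] at hse
    have hm : w⁻¹ * (s * w * s⁻¹) ∈ V₀ := V₀.mul_mem (V₀.inv_mem hw) ((mem_normalizer_iff.mp (hn hs) w).mp hw)
    refine ⟨s, hs, (w⁻¹ * (s * w * s⁻¹))⁻¹ * e, ⟨V₀.mul_mem (V₀.inv_mem hm) he.1, ?_⟩, by group⟩
    have h2 := F.inv_mem hse
    have e2 : (w⁻¹ * (s * w * s⁻¹) * e⁻¹)⁻¹ = e * (w⁻¹ * (s * w * s⁻¹))⁻¹ := by group
    rw [e2, H.V_comm (h0V he.1) (inv_mem (h0V hm))] at h2
    exact h2
  ab := fun s hs t ht v hv => by
    have hx : t * (s * v * s⁻¹) * t⁻¹ ∈ V := hyp_norm H (hyp_norm H (h0V hv) hs) ht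
    have h1 := hyp_fix H (H.comm_WW hs ht) hx
    rw [← h1, c_def]
    group
  inv := fun s hs v hv => by
    have h1 := hyp_fix H (H.sq_W hs) (h0V hv)
    calc s * (s * v * s⁻¹) * s⁻¹ = s * s * v * (s * s)⁻¹ := by group
      _ = v := h1
  ne := by
    intro hle
    have h1 := hyp_EE_le H h0V hn hnot
    have h2 : NOne.Flat.EE V F ≤ F := h1.trans (sup_le (hle.trans inf_le_right) le_rfl)
    exact absurd (lt_of_lt_of_le H.F_lt_E h2) (lt_irrefl _)
  ne' := fun hle => hnot (hle.trans inf_le_right)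

theorem hyp_lt (h0V : V₀ ≤ V) (hn : WW V F ≤ normalizer (V₀ : Set G)) (hnot : ¬ V₀ ≤ NOne.Flat.EE V F) :
    (V₀ ⊓ NOne.Flat.EE V F).relIndex V₀ < (V₀ ⊓ F).relIndex (V₀ ⊓ NOne.Flat.EE V F) := by
  have h1 : (V₀ ⊓ NOne.Flat.EE V F).relIndex V₀ ≤ (NOne.Flat.EE V F).relIndex V := by
    rw [inf_relIndex_left]
    exact relIndex_le_of_le_right h0V Subgroup.index_ne_zero_of_finite
  have h2 : (V₀ ⊓ F).relIndex (V₀ ⊓ NOne.Flat.EE V F) = F.relIndex (NOne.Flat.EE V F) := by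
    have h3 : (V₀ ⊓ NOne.Flat.EE V F) ⊔ F = NOne.Flat.EE V F :=
      le_antisymm (sup_le inf_le_right H.F_lt_E.le) (hyp_EE_le H h0V hn hnot)
    have h4 : V₀ ⊓ NOne.Flat.EE V F ≤ normalizer (F : Set G) :=
      ((inf_le_left.trans h0V).trans (H.comm.trans (centralizer_le H.F_le_V))).trans (centralizer_le_normalizer _)
    have h5 := relIndex_sup_of_norm h4
    rw [h3] at h5
    rw [h5, ← inf_relIndex_right F, ← inf_relIndex_right (V₀ ⊓ F)]
    congr 1
    refine le_antisymm (le_inf (inf_le_left.trans inf_le_right) inf_le_right)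
      (le_inf (le_inf (inf_le_right.trans inf_le_left) inf_le_left) inf_le_right)
  rw [h2]
  exact lt_of_le_of_lt h1 H.relIndex_lt

/-- **(10)** for `V_P` -/
theorem fdat_of_hyp (h : Cfg S P) (h0V : zl (S : Subgroup G) P ≤ V) (hWS : WW V F ≤ S)
    (hnot : ¬ zl (S : Subgroup G) P ≤ NOne.Flat.EE V F) :
    FDat S P (zl (S : Subgroup G) P ⊓ NOne.Flat.EE V F) (zl (S : Subgroup G) P ⊓ F) (WW V F) := by
  have hWP : WW V F ≤ P := hWS.trans h.S_le
  have hn : WW V F ≤ normalizer (zl (S : Subgroup G) P : Set G) := hWP.trans h.sit.norm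
  refine ⟨h, flat_of_hyp H h0V hn hnot, hyp_lt H h0V hn hnot, hWP, S.isPGroup'.to_le hWS, ?_⟩
  refine le_inf h.Z_le_V ?_
  rw [← H.cent_VW]
  refine le_inf (h.Z_le_V.trans h0V) fun z hz => mem_centralizer_iff.mpr fun s hs => ?_
  exact (ChoiceBase.mem_zc.1 hz).2.2 s (hWS hs)

/-- `V_P ≰ O₂(C_G(F))` -/
theorem hyp_bad (h0V : V₀ ≤ V) (hnot : ¬ V₀ ≤ NOne.Flat.EE V F) : ¬ V₀ ≤ o2 (centralizer (F : Set G)) :=
  fun h1 => hnot (le_inf h0V h1)

/-- **(IRR)** : every `P`-invariant `1 ≠ V' ≤ V_P` contains `V₁`. -/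
theorem irr_of_hyp (h : Cfg S P) (h0V : zl (S : Subgroup G) P ≤ V) (hWS : WW V F ≤ S)
    (hnot : ¬ zl (S : Subgroup G) P ≤ NOne.Flat.EE V F) {V' : Subgroup G} (hV' : V' ≤ zl (S : Subgroup G) P)
    (hn : P ≤ normalizer (V' : Set G)) (hne : V' ≠ ⊥) : V1 S P ≤ V' :=
  (fdat_of_hyp H h h0V hWS hnot).le_of hV' hn hne

/-- **(IRR)** : `V₁` is an irreducible module for `K = ⟨W_F^P⟩`. -/
theorem irrK_of_hyp (h : Cfg S P) (h0V : zl (S : Subgroup G) P ≤ V) (hWS : WW V F ≤ S)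
    (hnot : ¬ zl (S : Subgroup G) P ≤ NOne.Flat.EE V F) {X : Subgroup G} (hX : X ≤ V1 S P)
    (hn : KW P (WW V F) ≤ normalizer (X : Set G)) : X = ⊥ ∨ X = V1 S P := by
  have hV2 : IsPGroup 2 F := S.isPGroup'.to_le (H.F_le_E.trans (NOne.Flat.Hyp.E_le_W.trans hWS))
  exact (fdat_of_hyp H h h0V hWS hnot).irr_K inf_le_right
    (h0V.trans (H.comm.trans (centralizer_le H.F_le_V)))
    (H.F_le_V.trans (H.comm.trans (centralizer_le H.F_le_V))) hV2 (hyp_bad H h0V hnot) hX hn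

end

end Cfsg.Agent.Omega.NO1.WRF.Irr

end

section


/-!
# THEOREM WRF (bb OMEGA #16078), first part of step (3): `|O| = 2`

`TwoS V E F W Vf i j s` : `FlatM V E F W`, `V = ⊕ Vf k` permuted by `W`, `Vf i ≰ E`, `W` maps `Vf i` to `Vf i` or
`Vf j = (Vf i)ˢ`, the other members are in `F`; no offender in `W`; `|V/E| < |E/F|`.
Then `|Vf i| = 4` (`TwoS.card_four`) and `N_W(Vf i)` is nontrivial on `V` (`TwoS.exists_a`).
-/

set_option autoImplicit false
set_option linter.unusedSectionVars false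

namespace Cfsg.Agent.Omega.NO1.WRF

open Subgroup
open Cfsg.Agent.Omega.FFThm (ElemM OffM)
open Cfsg.Agent.Omega.NOne.Flat (Cos)

universe u v

variable {G : Type u} [Group G] {ι : Type v}

theorem relIndex_le_two' {H K : Subgroup G}
    (h : ∀ a ∈ K, ∀ b ∈ K, a ∉ H → b ∉ H → a⁻¹ * b ∈ H) : H.relIndex K ≤ 2 := by
  by_cases hle : K ≤ H
  · rw [relIndex_eq_one.mpr hle]; norm_num
  obtain ⟨a, ha, haH⟩ := SetLike.not_le_iff_exists.1 hle
  have : H.relIndex K = 2 := by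
    rw [relIndex_eq_two_iff_exists_notMem_and]
    refine ⟨a⁻¹, inv_mem ha, fun h1 => haH (by simpa using inv_mem h1), fun b hb => ?_⟩
    by_cases hbH : b ∈ H
    · exact Or.inr hbH
    · left
      have h1 := h b⁻¹ (inv_mem hb) a⁻¹ (inv_mem ha) (fun h1 => hbH (by simpa using inv_mem h1))
        (fun h1 => haH (by simpa using inv_mem h1))
      rwa [inv_inv] at h1
  rw [this]

namespace FlatM

variable {V E F W : Subgroup G} (h : FlatM V E F W) (hVc : ∀ a ∈ V, ∀ b ∈ V, a * b = b * a)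
include h hVc

/-- `[w,a] ∈ F` for one `w ∈ V - E` implies `[E,a] = 1`. -/
theorem cent_E {w a : G} (hw : w ∈ V) (hwE : w ∉ E) (ha : a ∈ W) (hc : w⁻¹ * (a * w * a⁻¹) ∈ F) {e : G}
    (he : e ∈ E) : a * e * a⁻¹ = e := by
  obtain ⟨t, ht, f, hf, rfl⟩ := h.reg w hw hwE e he
  obtain ⟨g, hg, hgd⟩ : ∃ g ∈ F, a * w * a⁻¹ = w * g := ⟨_, hc, by group⟩
  have htw := h.norm t ht w hw
  have e1 : a * (t * w * t⁻¹) * a⁻¹ = (t * w * t⁻¹) * g := by
    rw [h.ab a ha t ht w hw, hgd]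
    calc t * (w * g) * t⁻¹ = (t * w * t⁻¹) * (t * g * t⁻¹) := by group
      _ = _ := by rw [h.F_cent hg ht]
  have c1 := hVc g (h.F_le hg) (w⁻¹ * (t * w * t⁻¹)) (mul_mem (inv_mem hw) htw)
  calc a * (w⁻¹ * (t * w * t⁻¹) * f) * a⁻¹ = (a * w * a⁻¹)⁻¹ * (a * (t * w * t⁻¹) * a⁻¹) * (a * f * a⁻¹) := by
        group
    _ = (w * g)⁻¹ * ((t * w * t⁻¹) * g) * f := by rw [hgd, e1, h.F_cent hf ha]
    _ = g⁻¹ * (w⁻¹ * (t * w * t⁻¹) * g) * f := by group
    _ = g⁻¹ * (g * (w⁻¹ * (t * w * t⁻¹))) * f := by rw [c1]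
    _ = _ := by group

/-- `[w,a] ∈ F` for one `w ∈ V - E` implies `[V,a] ≤ F`. -/
theorem comm_F {w a : G} (hw : w ∈ V) (hwE : w ∉ E) (ha : a ∈ W) (hc : w⁻¹ * (a * w * a⁻¹) ∈ F) {v : G}
    (hv : v ∈ V) : v⁻¹ * (a * v * a⁻¹) ∈ F := by
  have hav := h.norm a ha v hv
  refine h.mem_F (mul_mem (inv_mem hv) hav) fun t ht => ?_
  have he := h.VE t ht v hv
  obtain ⟨e, he, hed⟩ : ∃ e ∈ E, t * v * t⁻¹ = v * e := ⟨_, he, by group⟩
  have h1 := h.cent_E hVc hw hwE ha hc he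
  have c1 := hVc e (h.le he) (v⁻¹ * (a * v * a⁻¹)) (mul_mem (inv_mem hv) hav)
  calc t * (v⁻¹ * (a * v * a⁻¹)) * t⁻¹ = (t * v * t⁻¹)⁻¹ * (t * (a * v * a⁻¹) * t⁻¹) := by group
    _ = (t * v * t⁻¹)⁻¹ * (a * (t * v * t⁻¹) * a⁻¹) := by rw [h.ab t ht a ha v hv]
    _ = (v * e)⁻¹ * ((a * v * a⁻¹) * (a * e * a⁻¹)) := by rw [hed]; group
    _ = e⁻¹ * (v⁻¹ * (a * v * a⁻¹) * e) := by rw [h1]; group
    _ = e⁻¹ * (e * (v⁻¹ * (a * v * a⁻¹))) := by rw [c1]
    _ = _ := by group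

omit hVc in
/-- `W` acts as an elementary abelian group -/
theorem elemM {A : Subgroup G} (hA : A ≤ W) : ElemM V A := by
  refine ⟨?_, ?_⟩
  · intro u hu
    rw [mem_centralizer_iff]
    intro v hv
    have h4 := h.inv u (hA hu) v hv
    have e : u * (u * v * u⁻¹) * u⁻¹ = u ^ 2 * v * (u ^ 2)⁻¹ := by rw [pow_two]; group
    rw [e, mul_inv_eq_iff_eq_mul] at h4
    exact h4.symm
  · intro u hu t ht
    rw [mem_centralizer_iff]
    intro v hv
    have h4 := h.ab u (hA hu) t (hA ht) (t⁻¹ * (u⁻¹ * v * u) * t) (by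
      have e : t⁻¹ * (u⁻¹ * v * u) * t = t⁻¹ * (u⁻¹ * v * u⁻¹⁻¹) * t⁻¹⁻¹ := by group
      rw [e]
      exact h.norm _ (inv_mem (hA ht)) _ (h.norm _ (inv_mem (hA hu)) v hv))
    have e1 : u * (t * (t⁻¹ * (u⁻¹ * v * u) * t) * t⁻¹) * u⁻¹ = v := by group
    have e2 : t * (u * (t⁻¹ * (u⁻¹ * v * u) * t) * u⁻¹) * t⁻¹ =
        (u * t * u⁻¹ * t⁻¹)⁻¹ * v * (u * t * u⁻¹ * t⁻¹) := by group
    rw [e1, e2] at h4
    conv_rhs => rw [h4]
    group

end FlatM

/-- The configuration `|O| = 2`. -/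
structure TwoS (V E F W : Subgroup G) (Vf : ι → Subgroup G) (i j : ι) (s : G) : Prop where
  flat : FlatM V E F W
  dec : Dec V Vf
  perm : Perm W Vf
  ne : ∀ k, Vf k ≠ ⊥
  lt : E.relIndex V < F.relIndex E
  hij : j ≠ i
  sW : s ∈ W
  sij : (Vf i).map (MulAut.conj s).toMonoidHom = Vf j
  two : ∀ u ∈ W, (Vf i).map (MulAut.conj u).toMonoidHom = Vf i ∨ (Vf i).map (MulAut.conj u).toMonoidHom = Vf j
  nE : ¬ Vf i ≤ E
  hF : ∀ k, k ≠ i → k ≠ j → Vf k ≤ F
  noff : ∀ A : Subgroup G, A ≤ W → ¬ OffM V A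
  pg : IsPGroup 2 V

namespace TwoS

variable {V E F W : Subgroup G} {Vf : ι → Subgroup G} {i j : ι} {s : G} (h : TwoS V E F W Vf i j s)
include h

/-- the stabiliser of `Vf i` in `W` -/
abbrev AA (W : Subgroup G) (Vf : ι → Subgroup G) (i : ι) : Subgroup G := W ⊓ normalizer (Vf i : Set G)

omit h in
theorem map_of_mem {u : G} (hu : u ∈ AA W Vf i) : (Vf i).map (MulAut.conj u).toMonoidHom = Vf i := by
  refine map_eq_of (fun x hx => (mem_normalizer_iff.mp hu.2 x).mp hx) fun y hy => ?_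
  refine ⟨u⁻¹ * y * u, ?_, by group⟩
  have h1 := (mem_normalizer_iff.mp (inv_mem hu.2) y).mp hy
  rwa [inv_inv] at h1

omit h in
theorem mem_of_map {u : G} (hu : u ∈ W) (h1 : (Vf i).map (MulAut.conj u).toMonoidHom = Vf i) : u ∈ AA W Vf i := by
  refine ⟨hu, mem_normalizer_iff.mpr fun x => ⟨fun hx => conj_mem_of_eq h1 hx, fun hx => ?_⟩⟩
  have h2 := conj_mem_of_eq (map_inv h1) hx
  have e : u⁻¹ * (u * x * u⁻¹) * u⁻¹⁻¹ = x := by group
  rwa [e] at h2

theorem conj_i {u x : G} (hu : u ∈ AA W Vf i) (hx : x ∈ Vf i) : u * x * u⁻¹ ∈ Vf i :=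
  (mem_normalizer_iff.mp hu.2 x).mp hx

theorem map_j {u : G} (hu : u ∈ AA W Vf i) : (Vf j).map (MulAut.conj u).toMonoidHom = Vf j := by
  have hle := h.dec.le i
  apply map_eq_of
  · intro y hy
    obtain ⟨x, hx, rfl⟩ := mem_of_conj_mem h.sij hy
    rw [h.flat.ab u hu.1 s h.sW x (hle hx)]
    exact conj_mem_of_eq h.sij (conj_i h hu hx)
  · intro y hy
    obtain ⟨x, hx, rfl⟩ := mem_of_conj_mem h.sij hy
    obtain ⟨z, hz, rfl⟩ := mem_of_conj_mem (map_of_mem hu) hx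
    exact ⟨s * z * s⁻¹, conj_mem_of_eq h.sij hz, h.flat.ab u hu.1 s h.sW z (hle hz)⟩

theorem map_k {u : G} (hu : u ∈ W) {k : ι} (hki : k ≠ i) (hkj : k ≠ j) :
    (Vf k).map (MulAut.conj u).toMonoidHom = Vf k := by
  have hk := h.hF k hki hkj
  apply map_eq_of
  · intro y hy
    rw [h.flat.F_cent (hk hy) hu]
    exact hy
  · intro y hy
    exact ⟨y, hy, h.flat.F_cent (hk hy) hu⟩

variable [Finite ι]

/-- `F ∩ Vf i = 1` -/
theorem F_inf {x : G} (hx : x ∈ Vf i) (hxF : x ∈ F) : x = 1 := by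
  have h1 := conj_mem_of_eq h.sij hx
  rw [h.flat.F_cent hxF h.sW] at h1
  have h2 := h.dec.cd_self h1
  rw [h.dec.cd_other hx h.hij] at h2
  exact h2.symm

/-- an element of `N_W(Vf i)` which centralises some `w ∈ Vf i - E` centralises `V` -/
theorem cent {u w : G} (hu : u ∈ AA W Vf i) (hw : w ∈ Vf i) (hwE : w ∉ E) (hc : u * w * u⁻¹ = w) :
    u ∈ centralizer (V : Set G) := by
  have hle := h.dec.le i
  have h0 : w⁻¹ * (u * w * u⁻¹) ∈ F := by rw [hc, inv_mul_cancel]; exact one_mem _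
  have h1 : ∀ x ∈ Vf i, u * x * u⁻¹ = x := by
    intro x hx
    have h2 := h.flat.comm_F h.dec.comm (hle hw) hwE hu.1 h0 (hle hx)
    have h3 := h.F_inf (mul_mem (inv_mem hx) (conj_i h hu hx)) h2
    exact (inv_mul_eq_one.mp h3).symm
  have h2 : V ≤ centralizer ({u} : Set G) := by
    rw [← h.dec.sup]
    refine iSup_le fun k x hx => ?_
    rw [mem_centralizer_singleton_iff, eq_comm, ← mul_inv_eq_iff_eq_mul]
    by_cases hki : k = i
    · subst hki
      exact h1 x hx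
    by_cases hkj : k = j
    · subst hkj
      obtain ⟨y, hy, rfl⟩ := mem_of_conj_mem h.sij hx
      rw [h.flat.ab u hu.1 s h.sW y (hle hy), h1 y hy]
    · exact h.flat.F_cent (h.hF k hki hkj hx) hu.1
  rw [mem_centralizer_iff]
  intro v hv
  exact mem_centralizer_singleton_iff.mp (h2 hv)

/-- `N_W(Vf i)` is nontrivial on `V` -/
theorem exists_a [Finite G] : ∃ a ∈ AA W Vf i, a ∉ centralizer (V : Set G) := by
  by_contra hcon
  push Not at hcon
  obtain ⟨w, hw, hwE⟩ := SetLike.not_le_iff_exists.1 h.nE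
  have hle := h.dec.le i
  have hwV := hle hw
  have hA : ∀ u ∈ AA W Vf i, u * w * u⁻¹ = w := fun u hu => by
    rw [← mem_centralizer_iff.mp (hcon u hu) w hwV, mul_assoc, mul_inv_cancel, mul_one]
  have hW : ∀ u ∈ W, u * w * u⁻¹ = w ∨ u * w * u⁻¹ = s * w * s⁻¹ := by
    intro u hu
    rcases h.two u hu with h1 | h1
    · exact Or.inl (hA u (mem_of_map hu h1))
    · right
      have h2 : s⁻¹ * u ∈ AA W Vf i := mem_of_map (mul_mem (inv_mem h.sW) hu) (map_mul h1 (map_inv h.sij))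
      have h3 := hA _ h2
      calc u * w * u⁻¹ = s * (s⁻¹ * u * w * (s⁻¹ * u)⁻¹) * s⁻¹ := by group
        _ = _ := by rw [h3]
  have h2 : F.relIndex E ≤ 2 := by
    refine relIndex_le_two' fun a ha b hb haF hbF => ?_
    have key : ∀ e ∈ E, e ∉ F → w⁻¹ * (s * w * s⁻¹) * e⁻¹ ∈ F := by
      intro e he heF
      obtain ⟨u, hu, f, hf, rfl⟩ := h.flat.reg w hwV hwE e he
      rcases hW u hu with h3 | h3
      · exfalso
        apply heF
        rw [h3, inv_mul_cancel, one_mul]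
        exact hf
      · rw [h3]
        have c1 := h.dec.comm (w⁻¹ * (s * w * s⁻¹)) (mul_mem (inv_mem hwV) (h.flat.norm s h.sW w hwV)) _
          (h.flat.F_le hf)
        rw [c1, mul_inv_rev]
        have e1 : w⁻¹ * (s * w * s⁻¹) * ((w⁻¹ * (s * w * s⁻¹))⁻¹ * f⁻¹) = f⁻¹ := by group
        rw [e1]
        exact inv_mem hf
    have h3 := mul_mem (inv_mem (key a ha haF)) (key b hb hbF)
    have e1 : (w⁻¹ * (s * w * s⁻¹) * a⁻¹)⁻¹ * (w⁻¹ * (s * w * s⁻¹) * b⁻¹) = a * b⁻¹ := by group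
    rw [e1] at h3
    have c1 := h.dec.comm a⁻¹ (inv_mem (h.flat.le ha)) b (h.flat.le hb)
    rw [c1]
    have h4 := inv_mem h3
    rwa [mul_inv_rev, inv_inv] at h4
  have h3 : 2 ≤ E.relIndex V := by
    have h4 : E.relIndex V ≠ 1 := fun h4 => h.flat.ne' (relIndex_eq_one.mp h4)
    have h5 : E.relIndex V ≠ 0 := Subgroup.index_ne_zero_of_finite
    omega
  have := h.lt
  omega

/-- `E ∩ Vf i = C_{Vf i}(N_W(Vf i))` -/
theorem mem_E_iff [Finite G] {x : G} (hx : x ∈ Vf i) : x ∈ E ↔ ∀ u ∈ AA W Vf i, u * x * u⁻¹ = x := by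
  have hle := h.dec.le i
  constructor
  · intro hxE u hu
    have hf := h.flat.EF s h.sW x hxE
    have hsx := conj_mem_of_eq h.sij hx
    have hxV := hle hx
    have h1 := h.flat.cd_F h.dec h.perm h.ne hf hu.1 (map_of_mem hu)
    rw [h.dec.cd_mul (inv_mem hxV) (h.flat.norm s h.sW x hxV), h.dec.cd_inv hxV, h.dec.cd_self hx,
      h.dec.cd_other hsx h.hij.symm, mul_one] at h1
    have h2 : u * x * u⁻¹ = (u * x⁻¹ * u⁻¹)⁻¹ := by group
    rw [h2, ← h1, inv_inv]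
  · intro h1
    by_contra hxE
    obtain ⟨a, ha, haC⟩ := h.exists_a
    exact haC (h.cent ha hx hxE (h1 a ha))

/-- the `i`-coordinate of an element of `F` is in `E` -/
theorem cd_mem_E [Finite G] {f : G} (hf : f ∈ F) : h.dec.cd f i ∈ E := by
  rw [h.mem_E_iff (h.dec.cd_mem (h.flat.F_le hf) i)]
  intro u hu
  exact (h.flat.cd_F h.dec h.perm h.ne hf hu.1 (map_of_mem hu)).symm

/-- coordinates of `[w,u]f` -/
theorem cd_reg {w u f : G} (hw : w ∈ Vf i) (hu : u ∈ W) (hf : f ∈ F) :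
    (u ∈ AA W Vf i ∧ h.dec.cd (w⁻¹ * (u * w * u⁻¹) * f) i = w⁻¹ * (u * w * u⁻¹) * h.dec.cd f i) ∨
      h.dec.cd (w⁻¹ * (u * w * u⁻¹) * f) i = w⁻¹ * h.dec.cd f i := by
  have hwV := h.dec.le i hw
  have huw := h.flat.norm u hu w hwV
  have e : h.dec.cd (w⁻¹ * (u * w * u⁻¹) * f) i = w⁻¹ * h.dec.cd (u * w * u⁻¹) i * h.dec.cd f i := by
    rw [h.dec.cd_mul (mul_mem (inv_mem hwV) huw) (h.flat.F_le hf), h.dec.cd_mul (inv_mem hwV) huw,
      h.dec.cd_inv hwV, h.dec.cd_self hw]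
  rcases h.two u hu with h1 | h1
  · left
    have hu' := mem_of_map hu h1
    refine ⟨hu', ?_⟩
    rw [e, h.dec.cd_self (conj_i h hu' hw)]
  · right
    rw [e, h.dec.cd_other (conj_mem_of_eq h1 hw) h.hij.symm, mul_one]

/-- `|Vf i : Vf i ∩ E| = 2` -/
theorem index_mem [Finite G] {w w' : G} (hw : w ∈ Vf i) (hw' : w' ∈ Vf i) (hwE : w ∉ E) (hwE' : w' ∉ E) :
    w⁻¹ * w' ∈ E := by
  have hwV := h.dec.le i hw
  have hwV' := h.dec.le i hw'
  have hsw := conj_mem_of_eq h.sij hw'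
  obtain ⟨u, hu, f, hf, he⟩ := h.flat.reg w hwV hwE _ (h.flat.VE s h.sW w' hwV')
  have h1 : h.dec.cd (w'⁻¹ * (s * w' * s⁻¹)) i = w'⁻¹ := by
    rw [h.dec.cd_mul (inv_mem hwV') (h.flat.norm s h.sW w' hwV'), h.dec.cd_inv hwV', h.dec.cd_self hw',
      h.dec.cd_other hsw h.hij.symm, mul_one]
  have hfE := h.cd_mem_E hf
  rcases h.cd_reg hw hu hf with ⟨hu', h2⟩ | h2
  · exfalso
    apply hwE'
    rw [he, h2] at h1
    have h3 : w'⁻¹ ∈ E := by
      rw [← h1]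
      exact mul_mem (h.flat.VE u hu w hwV) hfE
    simpa using inv_mem h3
  · rw [he, h2] at h1
    have h3 : w⁻¹ * w' = (h.dec.cd f i)⁻¹ := by
      have e1 : w' = (h.dec.cd f i)⁻¹ * w := by rw [← inv_inj, ← h1]; group
      rw [h.dec.comm _ (inv_mem hwV) _ hwV', e1, mul_assoc, mul_inv_cancel, mul_one]
    rw [h3]
    exact inv_mem hfE

/-- `a ↦ [w,a]` is onto `Vf i ∩ E` -/
theorem surj [Finite G] {w e : G} (hw : w ∈ Vf i) (hwE : w ∉ E) (he : e ∈ Vf i) (heE : e ∈ E) :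
    ∃ a ∈ AA W Vf i, w⁻¹ * (a * w * a⁻¹) = e := by
  have hwV := h.dec.le i hw
  obtain ⟨u, hu, f, hf, hef⟩ := h.flat.reg w hwV hwE e heE
  have h1 := h.dec.cd_self he
  rcases h.cd_reg hw hu hf with ⟨hu', h2⟩ | h2
  · refine ⟨u, hu', ?_⟩
    have h3 : f ∈ Vf i := by
      have : f = (w⁻¹ * (u * w * u⁻¹))⁻¹ * e := by rw [hef]; group
      rw [this]
      exact mul_mem (inv_mem (mul_mem (inv_mem hw) (conj_i h hu' hw))) he
    have h4 := h.F_inf h3 hf
    rw [hef, h4, mul_one]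
  · exfalso
    apply hwE
    have h1' : w⁻¹ * h.dec.cd f i = e := by
      rw [← h2, ← hef]
      exact h1
    have h3 : w = h.dec.cd f i * e⁻¹ := by
      rw [← h1']
      group
    rw [h3]
    exact mul_mem (h.cd_mem_E hf) (inv_mem heE)

theorem card_A [Finite G] : Nat.card (AA W Vf i) =
    Nat.card ↥(Vf i ⊓ E) * Nat.card ↥(AA W Vf i ⊓ centralizer (V : Set G)) := by
  obtain ⟨w, hw, hwE⟩ := SetLike.not_le_iff_exists.1 h.nE
  have hwV := h.dec.le i hw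
  have hc : Cos (fun a => w⁻¹ * (a * w * a⁻¹)) (AA W Vf i) (AA W Vf i ⊓ centralizer (V : Set G)) (Vf i ⊓ E) ⊥ := by
    constructor
    · intro a ha
      exact mem_inf.mpr ⟨mul_mem (inv_mem hw) (conj_i h ha hw), h.flat.VE a ha.1 w hwV⟩
    · intro a ha b hb
      have hab : a⁻¹ * b ∈ AA W Vf i := mul_mem (inv_mem ha) hb
      rw [mem_bot]
      have e1 : (w⁻¹ * (a * w * a⁻¹))⁻¹ * (w⁻¹ * (b * w * b⁻¹)) = (a * w * a⁻¹)⁻¹ * (b * w * b⁻¹) := by group
      simp only [e1]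
      rw [inv_mul_eq_one]
      constructor
      · intro h1
        refine ⟨hab, h.cent hab hw hwE ?_⟩
        have e2 : a⁻¹ * b * w * (a⁻¹ * b)⁻¹ = a⁻¹ * (b * w * b⁻¹) * a := by group
        rw [e2, ← h1]
        group
      · intro h1
        have h2 := mem_centralizer_iff.mp h1.2 w hwV
        have e2 : b * w * b⁻¹ = a * (a⁻¹ * b * w) * b⁻¹ := by group
        rw [e2, ← h2]
        group
  have h1 := hc.eq_of_surj (fun e he => by
    obtain ⟨a, ha, h1⟩ := h.surj hw hwE he.1 he.2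
    refine ⟨a, ha, ?_⟩
    rw [mem_bot]
    simp only [h1, inv_mul_cancel])
  have h2 := Cfsg.Agent.Omega.NOne.Flat.card_mul_relIndex'
    (inf_le_left : AA W Vf i ⊓ centralizer (V : Set G) ≤ AA W Vf i)
  rw [h1, relIndex_bot_left] at h2
  rw [← h2, mul_comm]

/-- the subgroup `{v ∈ V : v_i ∈ E}` -/
def X1 (h : TwoS V E F W Vf i j s) : Subgroup G where
  carrier := {v | v ∈ V ∧ h.dec.cd v i ∈ E}
  one_mem' := ⟨one_mem V, by rw [h.dec.cd_one]; exact one_mem E⟩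
  mul_mem' := fun {a b} ha hb => ⟨mul_mem ha.1 hb.1, by rw [h.dec.cd_mul ha.1 hb.1]; exact mul_mem ha.2 hb.2⟩
  inv_mem' := fun {a} ha => ⟨inv_mem ha.1, by rw [h.dec.cd_inv ha.1]; exact inv_mem ha.2⟩

/-- the subgroup `{v ∈ V : v_j ∈ Eˢ}` -/
def X2 (h : TwoS V E F W Vf i j s) : Subgroup G where
  carrier := {v | v ∈ V ∧ s⁻¹ * h.dec.cd v j * s ∈ E}
  one_mem' := ⟨one_mem V, by rw [h.dec.cd_one]; simp⟩
  mul_mem' := fun {a b} ha hb => ⟨mul_mem ha.1 hb.1, by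
    rw [h.dec.cd_mul ha.1 hb.1]
    have e : s⁻¹ * (h.dec.cd a j * h.dec.cd b j) * s = (s⁻¹ * h.dec.cd a j * s) * (s⁻¹ * h.dec.cd b j * s) := by
      group
    rw [e]
    exact mul_mem ha.2 hb.2⟩
  inv_mem' := fun {a} ha => ⟨inv_mem ha.1, by
    rw [h.dec.cd_inv ha.1]
    have e : s⁻¹ * (h.dec.cd a j)⁻¹ * s = (s⁻¹ * h.dec.cd a j * s)⁻¹ := by group
    rw [e]
    exact inv_mem ha.2⟩

theorem X_le [Finite G] : h.X1 ⊓ h.X2 ≤ V ⊓ centralizer (AA W Vf i : Set G) := by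
  rintro v ⟨⟨hv, h1⟩, -, h2⟩
  refine mem_inf.mpr ⟨hv, mem_centralizer_iff.mpr fun u hu => ?_⟩
  rw [← mul_inv_eq_iff_eq_mul]
  have hle := h.dec.le i
  refine h.dec.ext (h.flat.norm u hu.1 v hv) hv fun k => ?_
  by_cases hki : k = i
  · subst hki
    rw [h.dec.cd_conj h.ne (h.perm u hu.1) hv (map_of_mem hu)]
    exact (h.mem_E_iff (h.dec.cd_mem hv k)).mp h1 u hu
  by_cases hkj : k = j
  · subst hkj
    rw [h.dec.cd_conj h.ne (h.perm u hu.1) hv (map_j h hu)]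
    obtain ⟨y, hy, hys⟩ := mem_of_conj_mem h.sij (h.dec.cd_mem hv k)
    have e : s⁻¹ * h.dec.cd v k * s = y := by rw [← hys]; group
    rw [e] at h2
    rw [← hys, h.flat.ab u hu.1 s h.sW y (hle hy), (h.mem_E_iff hy).mp h2 u hu]
  · rw [h.dec.cd_conj h.ne (h.perm u hu.1) hv (map_k h hu.1 hki hkj)]
    exact h.flat.F_cent (h.hF k hki hkj (h.dec.cd_mem hv k)) hu.1

theorem relIndex_X1 [Finite G] : h.X1.relIndex V ≤ 2 := by
  refine relIndex_le_two' fun a ha b hb ha' hb' => ?_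
  refine ⟨mul_mem (inv_mem ha) hb, ?_⟩
  rw [h.dec.cd_mul (inv_mem ha) hb, h.dec.cd_inv ha]
  exact h.index_mem (h.dec.cd_mem ha i) (h.dec.cd_mem hb i) (fun h1 => ha' ⟨ha, h1⟩) fun h1 => hb' ⟨hb, h1⟩

theorem relIndex_X2 [Finite G] : h.X2.relIndex V ≤ 2 := by
  refine relIndex_le_two' fun a ha b hb ha' hb' => ?_
  refine ⟨mul_mem (inv_mem ha) hb, ?_⟩
  rw [h.dec.cd_mul (inv_mem ha) hb, h.dec.cd_inv ha]
  obtain ⟨x, hx, hxs⟩ := mem_of_conj_mem h.sij (h.dec.cd_mem ha j)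
  obtain ⟨y, hy, hys⟩ := mem_of_conj_mem h.sij (h.dec.cd_mem hb j)
  have ex : s⁻¹ * h.dec.cd a j * s = x := by rw [← hxs]; group
  have ey : s⁻¹ * h.dec.cd b j * s = y := by rw [← hys]; group
  have e : s⁻¹ * ((h.dec.cd a j)⁻¹ * h.dec.cd b j) * s = x⁻¹ * y := by
    rw [← hxs, ← hys]; group
  rw [e]
  refine h.index_mem hx hy (fun h1 => ha' ⟨ha, ?_⟩) fun h1 => hb' ⟨hb, ?_⟩
  · rw [ex]; exact h1
  · rw [ey]; exact h1

/-- `|V : C_V(N_W(Vf i))| ≤ 4` -/
theorem card_V_le [Finite G] : Nat.card V ≤ 4 * Nat.card ↥(V ⊓ centralizer (AA W Vf i : Set G)) := by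
  have h1 : (h.X1 ⊓ h.X2).relIndex V ≤ 4 :=
    relIndex_inf_le.trans (Nat.mul_le_mul h.relIndex_X1 h.relIndex_X2)
  have hle : h.X1 ⊓ h.X2 ≤ V := h.X_le.trans inf_le_left
  have h2 := Cfsg.Agent.Omega.NOne.Flat.card_mul_relIndex' hle
  rw [← h2, mul_comm]
  exact Nat.mul_le_mul h1 (Subgroup.card_le_of_le h.X_le)

/-- `|Vf i| = 4` -/
theorem card_four [Finite G] : Nat.card (Vf i) = 4 := by
  have h1 : (Vf i ⊓ E).relIndex (Vf i) = 2 := by
    have h2 : (Vf i ⊓ E).relIndex (Vf i) ≤ 2 := relIndex_le_two' fun a ha b hb ha' hb' =>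
      mem_inf.mpr ⟨mul_mem (inv_mem ha) hb, h.index_mem ha hb (fun h1 => ha' ⟨ha, h1⟩) fun h1 => hb' ⟨hb, h1⟩⟩
    have h3 : (Vf i ⊓ E).relIndex (Vf i) ≠ 1 := fun h3 => h.nE ((relIndex_eq_one.mp h3).trans inf_le_right)
    have h4 : (Vf i ⊓ E).relIndex (Vf i) ≠ 0 := Subgroup.index_ne_zero_of_finite
    omega
  have h2 := Cfsg.Agent.Omega.NOne.Flat.card_mul_relIndex' (inf_le_left : Vf i ⊓ E ≤ Vf i)
  rw [h1] at h2
  have h3 : Nat.card ↥(Vf i ⊓ E) < 4 := by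
    by_contra hcon
    obtain ⟨a, ha, haC⟩ := h.exists_a
    refine h.noff (AA W Vf i) inf_le_left ⟨h.flat.elemM inf_le_left, fun h1 => haC (h1 ha), ?_⟩
    · rw [h.card_A]
      calc Nat.card V * Nat.card ↥(AA W Vf i ⊓ centralizer (V : Set G))
          ≤ 4 * Nat.card ↥(V ⊓ centralizer (AA W Vf i : Set G)) *
            Nat.card ↥(AA W Vf i ⊓ centralizer (V : Set G)) := Nat.mul_le_mul_right _ h.card_V_le
        _ ≤ Nat.card ↥(Vf i ⊓ E) * Nat.card ↥(V ⊓ centralizer (AA W Vf i : Set G)) *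
            Nat.card ↥(AA W Vf i ⊓ centralizer (V : Set G)) :=
            Nat.mul_le_mul_right _ (Nat.mul_le_mul_right _ (not_lt.mp hcon))
        _ = _ := by ring
  have h5 : Nat.card ↥(Vf i ⊓ E) ≠ 1 := by
    intro h6
    obtain ⟨a, ha, haC⟩ := h.exists_a
    have h7 := h.card_A
    rw [h6, one_mul] at h7
    have h8 : AA W Vf i ⊓ centralizer (V : Set G) = AA W Vf i := eq_of_le_of_card_ge inf_le_left h7.le
    exact haC (inf_eq_left.mp h8 ha)
  have hp : IsPGroup 2 ↥(Vf i ⊓ E) := h.pg.to_le (inf_le_left.trans (h.dec.le i))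
  have : Fact (Nat.Prime 2) := ⟨Nat.prime_two⟩
  obtain ⟨n, hn⟩ := IsPGroup.iff_card.1 hp
  rw [hn] at h3 h5 h2
  rcases n with _ | _ | n
  · exact absurd (pow_zero 2) h5
  · rw [← h2]; norm_num
  · exfalso
    have : 2 ^ (n + 1 + 1) = 4 * 2 ^ n := by ring
    have h9 : 1 ≤ 2 ^ n := Nat.one_le_two_pow
    omega

end TwoS

end Cfsg.Agent.Omega.NO1.WRF

end

section


/-!
# THEOREM WRF (bb OMEGA #16078): step (3) and the theorem for a transitive family

* `three` : step (3), `|O| = 2` (either the classes of `i ~ j ⟺ (i j) ∈ P^ι` give a coarser decomposition on which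
  `W` moves one member only, or `P^ι` is the symmetric group, `|ι| = 2`, `|V| = 16`);
* `wrf` : a transitive decomposition `V = ⊕ Vf i`, `|ι| ≥ 2`, forces `V ≤ O₂(C_G(FF))`.
-/

set_option autoImplicit false
set_option linter.unusedSectionVars false

namespace Cfsg.Agent.Omega.NO1.WRF

open Subgroup Cfsg Cfsg.Agent.ZN Cfsg.Agent.ZN.ChoiceBase Cfsg.Agent.Omega.MinPar Cfsg.Agent.Omega.Frame
open Cfsg.Agent.Omega.NO1 Cfsg.Agent.Omega.NO1.WRF.Single
open Cfsg.Agent.Omega.FFThm (ElemM OffM)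

universe u v

variable {G : Type u} [Group G] {ι : Type v}

/-- The permutation representation. -/
theorem exists_perm {P : Subgroup G} {Vf : ι → Subgroup G} (hinj : Function.Injective Vf)
    (hperm : ∀ p ∈ P, ∀ i, ∃ j, cj p (Vf i) = Vf j) :
    ∃ ρ : P →* Equiv.Perm ι, ∀ (p : P) (i : ι), cj (p : G) (Vf i) = Vf (ρ p i) := by
  choose f hf using fun (p : P) i => hperm p p.2 i
  have h1 : ∀ i, f 1 i = i := by
    intro i
    apply hinj
    rw [← hf, OneMemClass.coe_one, cj_one]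
  have h2 : ∀ p q i, f (p * q) i = f p (f q i) := by
    intro p q i
    apply hinj
    rw [← hf, ← hf, ← hf, cj_cj]
    rfl
  let A : MulAction P ι := { smul := f, one_smul := h1, mul_smul := h2 }
  exact ⟨MulAction.toPermHom P ι, fun p i => hf p i⟩

/-- **(3)** `|O| = 2` is impossible. -/
theorem three [Finite G] [Finite ι] {S : Sylow 2 G} {P V E F W FF : Subgroup G} {Vf : ι → Subgroup G} {i j : ι}
    {s : G} (hs : Sit S P V) (hoff : ∀ A : Subgroup G, A ≤ P → ¬ OffM V A) (h : TwoS V E F W Vf i j s)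
    (hperm : ∀ p ∈ P, ∀ i, ∃ j, cj p (Vf i) = Vf j) (htr : ∀ i j, ∃ p ∈ P, cj p (Vf i) = Vf j)
    (hWP : W ≤ P) (hW2 : IsPGroup 2 W) (hFV : V ≤ centralizer (FF : Set G))
    (hFc : FF ≤ centralizer (FF : Set G)) (hF2 : IsPGroup 2 FF) (hFF : F ≤ FF)
    (hZF : V ⊓ zc (S : Subgroup G) ≤ FF) : V ≤ o2 (centralizer (FF : Set G)) := by
  classical
  have := Fintype.ofFinite ι
  have hinj := h.dec.inj_of_ne h.ne
  have hle : ∀ k, Vf k ≤ V := h.dec.le
  have hVc : V ≤ centralizer (V : Set G) := hs.comm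
  obtain ⟨ρ, hρ⟩ := exists_perm hinj hperm
  have hρ' : ∀ (p : P) (k l : ι), cj (p : G) (Vf k) = Vf l → ρ p k = l := fun p k l h1 =>
    hinj ((hρ p k).symm.trans h1)
  have hji := h.hij
  -- `s` induces the transposition
  have hsP : s ∈ P := hWP h.sW
  have hsk : ∀ k, k ≠ i → k ≠ j → ρ ⟨s, hsP⟩ k = k := fun k h1 h2 => hρ' _ _ _ (h.map_k h.sW h1 h2)
  have hsi : ρ ⟨s, hsP⟩ i = j := hρ' _ _ _ h.sij
  have hsj : ρ ⟨s, hsP⟩ j = i := by
    by_contra h1
    by_cases h2 : ρ ⟨s, hsP⟩ j = j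
    · exact hji ((ρ ⟨s, hsP⟩).injective (h2.trans hsi.symm))
    · have h3 := hsk _ h1 h2
      exact h2 ((ρ ⟨s, hsP⟩).injective h3)
  have hsw : ρ ⟨s, hsP⟩ = Equiv.swap i j := by
    apply Equiv.ext
    intro k
    by_cases hki : k = i
    · subst hki; rw [hsi, Equiv.swap_apply_left]
    by_cases hkj : k = j
    · subst hkj; rw [hsj, Equiv.swap_apply_right]
    · rw [hsk k hki hkj, Equiv.swap_apply_of_ne_of_ne hki hkj]
  -- the relation
  let r : Setoid ι :=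
    { r := fun a b => Equiv.swap a b ∈ ρ.range
      iseqv := by
        refine ⟨fun a => ?_, fun {a b} h1 => ?_, fun {a b c} h1 h2 => ?_⟩
        · rw [Equiv.swap_self]; exact one_mem _
        · rw [Equiv.swap_comm]; exact h1
        · by_cases hab : a = b
          · subst hab; exact h2
          by_cases hac : a = c
          · subst hac; rw [Equiv.swap_self]; exact one_mem _
          have h3 := mul_mem (mul_mem h2 h1) h2
          rw [Equiv.swap_mul_swap_mul_swap hab hac, Equiv.swap_comm] at h3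
          exact h3 }
  have hr : ∀ a b, r a b ↔ Equiv.swap a b ∈ ρ.range := fun a b => Iff.rfl
  have hrg : ∀ (p : P) (a b : ι), r a b → r (ρ p a) (ρ p b) := by
    intro p a b h1
    rw [hr, Equiv.swap_apply_apply]
    exact mul_mem (mul_mem ⟨p, rfl⟩ h1) (inv_mem ⟨p, rfl⟩)
  have hrij : r i j := ⟨_, hsw⟩
  obtain ⟨a, ha, haC⟩ := h.exists_a
  by_cases hconn : ∀ a b, r a b
  · exfalso
    have hSP : (S : Subgroup G) ≤ P := hs.par.le
    set K : Subgroup G := (ρ.ker).map P.subtype with hK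
    have memK : ∀ p : P, (p : G) ∈ K ↔ ρ p = 1 := by
      intro p
      constructor
      · rintro ⟨q, hq, e⟩
        have : q = p := Subtype.ext e
        subst this
        exact hq
      · intro h1
        exact ⟨p, h1, rfl⟩
    have hKP : K ≤ P := map_subtype_le _
    have hPK : P ≤ normalizer (K : Set G) := by
      intro p hp
      refine mem_normalizer_of_cj_le ?_
      rintro _ ⟨k, hk, rfl⟩
      have hk' : k ∈ P := hKP hk
      have h1 := (memK ⟨k, hk'⟩).mp hk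
      refine (memK (⟨p, hp⟩ * ⟨k, hk'⟩ * ⟨p, hp⟩⁻¹)).mpr ?_
      rw [_root_.map_mul, _root_.map_mul, h1, mul_one, _root_.map_inv, mul_inv_cancel]
    have hAK : TwoS.AA W Vf i ≤ K := by
      intro u hu
      refine (memK ⟨u, hWP hu.1⟩).mpr (Equiv.ext fun k => ?_)
      rw [Equiv.Perm.one_apply]
      apply hρ'
      by_cases hki : k = i
      · subst hki; exact TwoS.map_of_mem hu
      by_cases hkj : k = j
      · subst hkj; exact h.map_j hu
      · exact h.map_k hu.1 hki hkj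
    -- a conjugate of `W` in `S`
    have hS : ChoiceSit.Syl (S : Subgroup G) P := ⟨hSP, S.isPGroup', fun R _ hR hSR => S.is_maximal' hR hSR⟩
    obtain ⟨R, hR, hWR⟩ := ChoiceSit.exists_syl hW2 hWP
    obtain ⟨p₀, hp₀, hpR⟩ := ChoiceSit.syl_conj hR hS
    have hWS : ∀ w ∈ W, p₀ * w * p₀⁻¹ ∈ (S : Subgroup G) := by
      intro w hw
      rw [← hpR]
      exact ⟨w, hWR hw, rfl⟩
    have hCp : ∀ x : G, x ∈ centralizer (V : Set G) → p₀ * x * p₀⁻¹ ∈ centralizer (V : Set G) := by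
      intro x hx
      have h1 := cj_centralizer p₀ V
      rw [cj_eq_of_mem_normalizer (hs.norm hp₀)] at h1
      rw [← h1]
      exact ⟨x, hx, rfl⟩
    have hCp' : ∀ x : G, p₀ * x * p₀⁻¹ ∈ centralizer (V : Set G) → x ∈ centralizer (V : Set G) := by
      intro x hx
      have h1 := cj_centralizer p₀ V
      rw [cj_eq_of_mem_normalizer (hs.norm hp₀)] at h1
      rw [← h1, mem_cj] at hx
      have e : p₀⁻¹ * (p₀ * x * p₀⁻¹) * p₀ = x := by group
      rwa [e] at hx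
    have haK' : p₀ * a * p₀⁻¹ ∈ K := by
      have h1 := cj_eq_of_mem_normalizer (hPK hp₀)
      rw [← h1]
      exact ⟨a, hAK ha, rfl⟩
    rcases hs.par.sup_eq_or_inf_le S hKP hPK with h1 | h1
    swap
    · exact haC (hCp' a (hs.o2_le (h1 ⟨hWS a ha.1, haK'⟩)))
    have hdec : ∀ p ∈ P, ∃ k ∈ K, ∃ x ∈ (S : Subgroup G), k * x = p := by
      intro p hp
      have h2 : p ∈ (((S : Subgroup G) ⊔ K : Subgroup G) : Set G) := by
        rw [sup_comm, h1]; exact hp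
      rw [coe_mul_of_left_le_normalizer_right _ _ (hSP.trans hPK)] at h2
      obtain ⟨x, hx, k, hk, rfl⟩ := h2
      refine ⟨x * k * x⁻¹, (mem_normalizer_iff.mp (hPK (hSP hx)) k).mp hk, x, hx, ?_⟩
      change x * k * x⁻¹ * x = x * k
      group
    -- `ι = {i, j}`
    have hι : ∀ k, k ≠ i → k = j := by
      intro k hki
      by_contra hkj
      have h3 : (Equiv.swap i j * Equiv.swap i k).IsThreeCycle :=
        Equiv.Perm.isThreeCycle_swap_mul_swap_same (Ne.symm hji) (Ne.symm hki) (Ne.symm hkj)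
      obtain ⟨p, hp⟩ : Equiv.swap i j * Equiv.swap i k ∈ ρ.range := mul_mem (hconn i j) (hconn i k)
      obtain ⟨k', hk', x, hx, hkx⟩ := hdec p p.2
      have h4 : ρ ⟨x, hSP hx⟩ = Equiv.swap i j * Equiv.swap i k := by
        rw [← hp]
        have e : p = ⟨k', hKP hk'⟩ * ⟨x, hSP hx⟩ := Subtype.ext hkx.symm
        rw [e, _root_.map_mul, (memK ⟨k', hKP hk'⟩).mp hk', one_mul]
      have h5 : (Equiv.swap i j * Equiv.swap i k) ^ 3 = 1 := by
        rw [← h3.orderOf]; exact pow_orderOf_eq_one _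
      obtain ⟨n, hn⟩ := S.isPGroup' ⟨x, hx⟩
      have hn1 : x ^ 2 ^ n = 1 := congrArg Subtype.val hn
      have hn' : (⟨x, hSP hx⟩ : P) ^ 2 ^ n = 1 := Subtype.ext hn1
      have h6 := Four.eq_one_of_pow (n := n) h5 (by rw [← h4, ← map_pow, hn', map_one])
      have h7 := h3.orderOf
      rw [h6, orderOf_one] at h7
      omega
    have hsup : Vf i ⊔ Vf j = V := by
      refine le_antisymm (sup_le (hle i) (hle j)) ?_
      rw [← h.dec.sup]
      refine iSup_le fun k => ?_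
      by_cases hki : k = i
      · subst hki; exact le_sup_left
      · rw [hι k hki]; exact le_sup_right
    have hinf : Vf i ⊓ Vf j = ⊥ := (h.dec.indep.pairwiseDisjoint (Ne.symm hji)).eq_bot
    have hcard := h.card_four
    have hcard2 : Nat.card (Vf j) = 4 := by
      rw [← h.sij]
      have := card_cj s (Vf i)
      rw [hcard] at this
      exact this
    have hfix : ∀ p : P, (ρ p i = i ∧ ρ p j = j) ∨ (ρ p i = j ∧ ρ p j = i) := by
      intro p
      by_cases h2 : ρ p i = i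
      · left
        refine ⟨h2, hι _ fun h3 => hji ((ρ p).injective (h3.trans h2.symm))⟩
      · right
        have h3 := hι _ h2
        refine ⟨h3, ?_⟩
        by_contra h4
        exact hji ((ρ p).injective ((hι _ h4).trans h3.symm))
    have hcomm : ∀ u ∈ W, ∀ t ∈ W, u * t * u⁻¹ * t⁻¹ ∈ centralizer (V : Set G) :=
      (h.flat.elemM le_rfl).comm
    have hsq : ∀ u ∈ W, u ^ 2 ∈ centralizer (V : Set G) := (h.flat.elemM le_rfl).sq
    refine Four.Conf.false (S := S) (P := P) (V := V) (V₁ := Vf i) (V₂ := Vf j) (a := p₀ * a * p₀⁻¹)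
      (s := p₀ * s * p₀⁻¹) ⟨hs, hoff, hcard, hcard2, hsup, hinf, ?_, ?_, hWS a ha.1, ?_, ?_, hWS s h.sW, ?_, ?_, ?_⟩
    · intro p hp
      rcases hfix ⟨p, hp⟩ with ⟨h2, h3⟩ | ⟨h2, h3⟩
      · left
        exact ⟨by rw [hρ ⟨p, hp⟩, h2], by rw [hρ ⟨p, hp⟩, h3]⟩
      · right
        exact ⟨by rw [hρ ⟨p, hp⟩, h2], by rw [hρ ⟨p, hp⟩, h3]⟩
    · intro p hp
      obtain ⟨k, hk, x, hx, hkx⟩ := hdec p hp
      refine ⟨k, hKP hk, ?_, x, hx, hkx⟩
      rw [hρ ⟨k, hKP hk⟩, (memK ⟨k, hKP hk⟩).mp hk, Equiv.Perm.one_apply]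
    · rw [hρ ⟨_, hKP haK'⟩, (memK ⟨_, hKP haK'⟩).mp haK', Equiv.Perm.one_apply]
    · exact fun h2 => haC (hCp' a h2)
    · intro h2
      have h3 : ρ ⟨p₀ * s * p₀⁻¹, P.mul_mem (P.mul_mem hp₀ hsP) (P.inv_mem hp₀)⟩ i = i := hρ' _ _ _ h2
      have e : (⟨p₀ * s * p₀⁻¹, P.mul_mem (P.mul_mem hp₀ hsP) (P.inv_mem hp₀)⟩ : P) =
        ⟨p₀, hp₀⟩ * ⟨s, hsP⟩ * ⟨p₀, hp₀⟩⁻¹ := rfl
      rw [e, _root_.map_mul, _root_.map_mul, _root_.map_inv, Equiv.Perm.mul_apply, Equiv.Perm.mul_apply] at h3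
      set l := (ρ ⟨p₀, hp₀⟩)⁻¹ i with hl
      have h4 : ρ ⟨s, hsP⟩ l = l := by
        apply (ρ ⟨p₀, hp₀⟩).injective
        rw [h3, hl, ← Equiv.Perm.mul_apply, mul_inv_cancel, Equiv.Perm.one_apply]
      by_cases hli : l = i
      · rw [hli, hsi] at h4; exact hji h4
      · rw [hι l hli, hsj] at h4; exact hji h4.symm
    · have e : p₀ * a * p₀⁻¹ * (p₀ * s * p₀⁻¹) * (p₀ * a * p₀⁻¹)⁻¹ * (p₀ * s * p₀⁻¹)⁻¹ =
          p₀ * (a * s * a⁻¹ * s⁻¹) * p₀⁻¹ := by group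
      rw [e]
      exact hCp _ (hcomm a ha.1 s h.sW)
    · rw [conj_pow]
      exact hCp _ (hsq s h.sW)
  · -- the coarser decomposition
    push Not at hconn
    let κ := Quotient r
    let Wf : κ → Subgroup G := fun c => Vs Vf {k | (Quotient.mk r k) = c}
    have hκ : Nontrivial κ := by
      obtain ⟨a, b, hab⟩ := hconn
      exact ⟨Quotient.mk r a, Quotient.mk r b, fun h1 => hab (Quotient.exact h1)⟩
    have hmkeq : ∀ a b : ι, Quotient.mk r a = Quotient.mk r b ↔ r a b := fun a b => Quotient.eq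
    have hWfV : ∀ c, Wf c ≤ V := fun c => Vs_le fun k _ => hle k
    have hmv : ∀ (p : P) (k : ι), cj (p : G) (Wf (Quotient.mk r k)) ≤ Wf (Quotient.mk r (ρ p k)) := by
      intro p k
      refine cj_Vs_le fun l hl => ⟨ρ p l, ?_, hρ p l⟩
      have h1 : r l k := (hmkeq l k).mp hl
      exact (hmkeq _ _).mpr (hrg p l k h1)
    have hmv' : ∀ (p : P) (k : ι), cj (p : G) (Wf (Quotient.mk r k)) = Wf (Quotient.mk r (ρ p k)) := by
      intro p k
      refine le_antisymm (hmv p k) ?_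
      have h1 := hmv p⁻¹ (ρ p k)
      rw [_root_.map_inv, ← Equiv.Perm.mul_apply, inv_mul_cancel, Equiv.Perm.one_apply] at h1
      have h2 := cj_mono (p : G) h1
      have e : ((p⁻¹ : P) : G) = (p : G)⁻¹ := rfl
      rwa [e, cj_cj_inv] at h2
    have hij' : ∀ (c : κ), c ≠ Quotient.mk r i → ∀ k, Quotient.mk r k = c → Vf k ≤ F := by
      intro c hc k hk
      refine h.hF k ?_ ?_
      · rintro rfl; exact hc hk.symm
      · rintro rfl
        apply hc
        rw [← hk]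
        exact ((hmkeq _ _).mpr hrij).symm
    refine single_fam (ι := κ) (Vf := Wf) hs ?_ ?_ ?_ ?_ hWP hW2 ?_ (i₀ := Quotient.mk r i) ?_ hFV hFc hF2 ?_ hZF
    · intro c
      rw [disjoint_iff, eq_bot_iff, ← Vs_inf_Vs hVc hle h.dec.indep
        (I := {k | Quotient.mk r k = c}) (J := {k | Quotient.mk r k ≠ c}) (by
          rw [Set.disjoint_left]; intro k hk hk'; exact hk' hk)]
      refine inf_le_inf_left _ (iSup₂_le fun d hd => Vs_le fun k hk => le_Vs ?_)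
      intro h1
      apply hd
      rw [← h1]
      exact hk.symm
    · refine le_antisymm (iSup_le hWfV) ?_
      rw [← h.dec.sup]
      refine iSup_le fun k => ?_
      exact (le_Vs (Vf := Vf) (I := {l | Quotient.mk r l = Quotient.mk r k}) rfl).trans
        (le_iSup Wf (Quotient.mk r k))
    · intro p hp c
      induction c using Quotient.inductionOn with
      | h k => exact ⟨_, hmv' ⟨p, hp⟩ k⟩
    · intro c d
      induction c using Quotient.inductionOn with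
      | h k =>
        induction d using Quotient.inductionOn with
        | h l =>
          obtain ⟨p, hp, hpkl⟩ := htr k l
          refine ⟨p, hp, ?_⟩
          rw [hmv' ⟨p, hp⟩ k, hρ' ⟨p, hp⟩ k l hpkl]
    · exact fun h1 => haC (h1 ha.1)
    · intro c hc
      rw [Subgroup.le_centralizer_iff]
      refine Vs_le fun k hk => ?_
      refine (hij' c hc k hk).trans ?_
      rw [h.flat.F_eq]
      exact inf_le_right
    · intro c hc
      exact Vs_le fun k hk => (hij' c hc k hk).trans hFF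

/-- **THEOREM WRF**, transitive case. -/
theorem wrf [Finite G] [Finite ι] [Nontrivial ι] {S : Sylow 2 G} {P V E F W FF : Subgroup G}
    {Vf : ι → Subgroup G} (hs : Sit S P V) (hoff : ∀ A : Subgroup G, A ≤ P → ¬ OffM V A)
    (h : FlatM V E F W) (hlt : E.relIndex V < F.relIndex E)
    (hcv : ∀ v ∈ V, (∀ g ∈ P, g * v * g⁻¹ = v) → v = 1)
    (hind : iSupIndep Vf) (hsup : ⨆ i, Vf i = V)
    (hperm : ∀ p ∈ P, ∀ i, ∃ j, cj p (Vf i) = Vf j) (htr : ∀ i j, ∃ p ∈ P, cj p (Vf i) = Vf j)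
    (hWP : W ≤ P) (hW2 : IsPGroup 2 W) (hFV : V ≤ centralizer (FF : Set G))
    (hFc : FF ≤ centralizer (FF : Set G)) (hF2 : IsPGroup 2 FF) (hFF : F ≤ FF)
    (hZF : V ⊓ zc (S : Subgroup G) ≤ FF) : V ≤ o2 (centralizer (FF : Set G)) := by
  have hVc : ∀ a ∈ V, ∀ b ∈ V, a * b = b * a := fun a ha b hb => mem_centralizer_iff.mp (hs.comm hb) a ha
  have hD : Dec V Vf := ⟨hVc, hind, hsup⟩
  have hle := hD.le
  have hPW : Perm W Vf := fun w hw i => hperm w (hWP hw) i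
  have hne : ∀ k, Vf k ≠ ⊥ := by
    intro k hk
    apply h.ne'
    have h1 : V ≤ ⊥ := by
      rw [← hsup]
      refine iSup_le fun l => ?_
      obtain ⟨p, -, hp⟩ := htr k l
      rw [← hp, hk, cj, Subgroup.map_bot]
    exact h1.trans bot_le
  have hinj := hD.inj_of_ne hne
  obtain ⟨i, hi, hiF⟩ := h.one hD hPW hne
  rcases h.two' hD hPW hne (P := P) (fun p hp k => hperm p hp k) (fun k l => htr k l) hcv i with h1 | ⟨j, hji, hrel, h1⟩
  · -- `W` fixes `Vf i`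
    have hjF : ∀ j, j ≠ i → Vf j ≤ F := by
      intro j hj
      refine hiF j fun h2 => ?_
      obtain ⟨s, hs, h3⟩ := h2
      rw [h1 s hs] at h3
      exact hj (hinj h3).symm
    refine single_fam hs hind hsup hperm htr hWP hW2 ?_ (i₀ := i) ?_ hFV hFc hF2 (fun j hj => (hjF j hj).trans hFF) hZF
    · intro h2
      apply h.ne
      rw [h.F_eq]
      refine le_inf h.le (h.le.trans ?_)
      rw [Subgroup.le_centralizer_iff]
      exact h2
    · intro j hj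
      rw [Subgroup.le_centralizer_iff]
      refine (hjF j hj).trans ?_
      rw [h.F_eq]
      exact inf_le_right
  · obtain ⟨s, hsW, hsij⟩ := hrel
    have hV2 : IsPGroup 2 V := S.isPGroup'.to_le hs.le
    refine three hs hoff (i := i) (j := j) (s := s) (E := E) (F := F) ⟨h, hD, hPW, hne, hlt, hji, hsW, hsij, h1, hi,
      ?_, fun A hA => hoff A (hA.trans hWP), hV2⟩ hperm htr hWP hW2 hFV hFc hF2 hFF hZF
    intro k hki hkj
    refine hiF k fun h2 => ?_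
    obtain ⟨t, ht, h3⟩ := h2
    rcases h1 t ht with h4 | h4
    · rw [h4] at h3; exact hki (hinj h3).symm
    · rw [h4] at h3; exact hkj (hinj h3).symm

end Cfsg.Agent.Omega.NO1.WRF

end

section


/-!
# THEOREM WRF (bb OMEGA #16078) on `FDat`, transitive families

`FDat S P E F W`, `P` without offender on `V_P`, `F ≤ FF`, `V_P ≰ O₂(C_G(FF))`:

* `FDat.wrf` : `V_P` is not the sum of `|ι| ≥ 2` subgroups permuted transitively by `P`;
* `FDat.wrf1` : the same for `V₁ = [V_P, O²(P)]`;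
* `wrf_of_hyp`, `wrf1_of_hyp` : from THEOREM FLAT (`Hyp V F`, `V_P ≤ V`, `W_F ≤ S`, `V_P ≰ E_F`).
-/

set_option autoImplicit false
set_option linter.unusedSectionVars false

namespace Cfsg.Agent.Omega.NO1.WRF.Irr

open Subgroup Cfsg Cfsg.Agent.ZN Cfsg.Agent.ZN.ChoiceBase Cfsg.Agent.Omega.MinPar Cfsg.Agent.Omega.Frame
open Cfsg.Agent.Omega.NO1 Cfsg.Agent.Omega.NO1.WRF.Single
open Cfsg.Agent.Omega.FFThm (ElemM OffM)
open Cfsg.Agent.Omega.NOne.Flat (Hyp WW)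
open Cfsg.Agent.MinSimple.VModule (oddGen)

universe u v

variable {G : Type u} [Group G] [Finite G]

/-- offenders under conjugation by `g ∈ N(V)` -/
theorem offM_cj' {V A : Subgroup G} (h : OffM V A) {g : G} (hg : g ∈ normalizer (V : Set G)) : OffM V (cj g A) := by
  have hW : cj g V = V := cj_eq_of_mem_normalizer hg
  have hc : ∀ x, x ∈ centralizer (V : Set G) → g * x * g⁻¹ ∈ centralizer (V : Set G) := by
    intro x hx
    have h1 := cj_centralizer g V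
    rw [hW] at h1
    rw [← h1]
    exact ⟨x, hx, rfl⟩
  refine ⟨⟨?_, ?_⟩, fun h0 => h.ne ?_, ?_⟩
  · rintro _ ⟨a, ha, rfl⟩
    have h1 := hc _ (h.sq a ha)
    change (g * a * g⁻¹) ^ 2 ∈ _
    have e : (g * a * g⁻¹) ^ 2 = g * a ^ 2 * g⁻¹ := by rw [pow_two, pow_two]; group
    rwa [e]
  · rintro _ ⟨a, ha, rfl⟩ _ ⟨b, hb, rfl⟩
    have h1 := hc _ (h.comm a ha b hb)
    change g * a * g⁻¹ * (g * b * g⁻¹) * (g * a * g⁻¹)⁻¹ * (g * b * g⁻¹)⁻¹ ∈ _
    have e : g * a * g⁻¹ * (g * b * g⁻¹) * (g * a * g⁻¹)⁻¹ * (g * b * g⁻¹)⁻¹ =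
      g * (a * b * a⁻¹ * b⁻¹) * g⁻¹ := by group
    rwa [e]
  · rw [← hW, ← cj_centralizer, cj_le_iff, cj_inv_cj] at h0
    exact h0
  · have e1 : cj g A ⊓ centralizer (V : Set G) = cj g (A ⊓ centralizer (V : Set G)) := by
      conv_lhs => rw [← hW, ← cj_centralizer, ← cj_inf]
    have e2 : V ⊓ centralizer (cj g A : Set G) = cj g (V ⊓ centralizer (A : Set G)) := by
      conv_lhs => rw [← hW, ← cj_centralizer, ← cj_inf]
    rw [e1, e2, card_cj, card_cj, card_cj]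
    exact h.le

namespace FDat

variable {S : Sylow 2 G} {P E F W FF : Subgroup G} (h : FDat S P E F W)
include h

theorem cv {v : G} (hv : v ∈ zl (S : Subgroup G) P) (hc : ∀ g ∈ P, g * v * g⁻¹ = v) : v = 1 := by
  have h1 : v ∈ zl (S : Subgroup G) P ⊓ centralizer (oddGen P : Set G) := by
    refine ⟨hv, mem_centralizer_iff.mpr fun x hx => ?_⟩
    rw [← mul_inv_eq_iff_eq_mul]
    exact hc x (MinSimple.VModule.oddGen_le P hx)
  rw [h.cfg.one.cen, mem_bot] at h1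
  exact h1

/-- no offender on `V₁` -/
theorem noff1 (hoff : ∀ A : Subgroup G, A ≤ P → ¬ OffM (zl (S : Subgroup G) P) A) :
    ∀ A : Subgroup G, A ≤ P → ¬ OffM (V1 S P) A := by
  intro A hA ho
  obtain ⟨B, hBA, hB2, hoB⟩ := Cfsg.Agent.Omega.NO1.JMin.exists_two ho
  obtain ⟨R, hR, hBR⟩ := ChoiceSit.exists_syl hB2 (hBA.trans hA)
  obtain ⟨p, hp, hpR⟩ := ChoiceSit.syl_conj hR h.syl
  have hX := offM_cj' hoB (h.P_norm_V1 hp)
  have hXS : cj p B ≤ (S : Subgroup G) := by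
    rw [← hpR]; exact cj_mono p hBR
  set X := cj p B with hXd
  have hXC : ∀ x : G, x ∈ (S : Subgroup G) → x ∈ centralizer (V1 S P : Set G) →
      x ∈ centralizer (zl (S : Subgroup G) P : Set G) := by
    intro x hxS hx
    have h1 : zl (S : Subgroup G) P ≤ centralizer ({x} : Set G) := by
      rw [← h.sup_eq]
      refine sup_le ?_ ?_
      · intro v hv
        rw [mem_centralizer_singleton_iff]
        exact mem_centralizer_iff.mp hx v hv
      · intro z hz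
        rw [mem_centralizer_singleton_iff]
        exact ((ChoiceBase.mem_zc.1 hz).2.2 x hxS).symm
    rw [mem_centralizer_iff]
    intro v hv
    exact mem_centralizer_singleton_iff.mp (h1 hv)
  have hXP : X ≤ P := hXS.trans h.cfg.S_le
  refine hoff X hXP ⟨⟨fun a ha => hXC _ (Subgroup.pow_mem _ (hXS ha) 2) (hX.sq a ha), fun a ha b hb => hXC _ ?_
    (hX.comm a ha b hb)⟩, fun h1 => hX.ne (h1.trans (centralizer_le h.V1_le)), ?_⟩
  · exact Subgroup.mul_mem _ (Subgroup.mul_mem _ (Subgroup.mul_mem _ (hXS ha) (hXS hb)) (Subgroup.inv_mem _ (hXS ha)))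
      (Subgroup.inv_mem _ (hXS hb))
  · have e1 : X ⊓ centralizer (zl (S : Subgroup G) P : Set G) = X ⊓ centralizer (V1 S P : Set G) :=
      le_antisymm (inf_le_inf_left _ (centralizer_le h.V1_le)) (le_inf inf_le_left fun x hx => hXC x (hXS hx.1) hx.2)
    rw [e1]
    have hZ : zc (S : Subgroup G) ≤ zl (S : Subgroup G) P ⊓ centralizer (X : Set G) := by
      refine le_inf h.cfg.Z_le_V fun z hz => mem_centralizer_iff.mpr fun x hx => ?_
      exact (ChoiceBase.mem_zc.1 hz).2.2 x (hXS hx)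
    have e2 : V1 S P ⊔ (zl (S : Subgroup G) P ⊓ centralizer (X : Set G)) = zl (S : Subgroup G) P := by
      refine le_antisymm (sup_le h.V1_le inf_le_left) ?_
      conv_lhs => rw [← h.sup_eq]
      exact sup_le_sup_left hZ _
    have e3 : V1 S P ⊓ (zl (S : Subgroup G) P ⊓ centralizer (X : Set G)) = V1 S P ⊓ centralizer (X : Set G) := by
      rw [← inf_assoc, inf_eq_left.mpr h.V1_le]
    have e4 := Cfsg.Agent.PLocal.ElemAbSup.card_sup_mul_card_inf (A := V1 S P)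
      (B := zl (S : Subgroup G) P ⊓ centralizer (X : Set G))
      (inf_le_left.trans (h.cfg.V_comm.trans (centralizer_le h.V1_le)))
    rw [e2, e3] at e4
    have hpos : 0 < Nat.card ↥(V1 S P ⊓ centralizer (X : Set G)) := Nat.card_pos
    refine Nat.le_of_mul_le_mul_right ?_ hpos
    calc Nat.card (zl (S : Subgroup G) P) * Nat.card ↥(X ⊓ centralizer (V1 S P : Set G)) *
          Nat.card ↥(V1 S P ⊓ centralizer (X : Set G))
        = Nat.card (V1 S P) * Nat.card ↥(X ⊓ centralizer (V1 S P : Set G)) *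
          Nat.card ↥(zl (S : Subgroup G) P ⊓ centralizer (X : Set G)) := by
          rw [mul_right_comm, e4]; ring
      _ ≤ Nat.card X * Nat.card ↥(V1 S P ⊓ centralizer (X : Set G)) *
          Nat.card ↥(zl (S : Subgroup G) P ⊓ centralizer (X : Set G)) := Nat.mul_le_mul_right _ hX.le
      _ = _ := by ring

theorem lt1 : (E ⊓ V1 S P).relIndex (V1 S P) < (F ⊓ V1 S P).relIndex (E ⊓ V1 S P) := by
  have hFE := h.F_le_E
  have hVn : ∀ {A B : Subgroup G}, A ≤ zl (S : Subgroup G) P → B ≤ zl (S : Subgroup G) P →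
      A ≤ normalizer (B : Set G) := fun hA hB =>
    (hA.trans (h.cfg.V_comm.trans (centralizer_le hB))).trans (centralizer_le_normalizer _)
  have e1 : (E ⊓ V1 S P).relIndex (V1 S P) = E.relIndex (zl (S : Subgroup G) P) := by
    rw [inf_relIndex_right]
    have h1 := relIndex_sup_of_norm (hVn h.V1_le h.E_le_V)
    have h2 : V1 S P ⊔ E = zl (S : Subgroup G) P := by
      refine le_antisymm (sup_le h.V1_le h.E_le_V) ?_
      conv_lhs => rw [← h.sup_eq]
      exact sup_le_sup_left (h.Z_le.trans hFE) _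
    rw [h2] at h1
    exact h1.symm
  have e2 : (F ⊓ V1 S P).relIndex (E ⊓ V1 S P) = F.relIndex E := by
    have h1 := relIndex_sup_of_norm (hVn (inf_le_left.trans h.E_le_V : E ⊓ V1 S P ≤ _) h.F_le_V)
    have h2 : (E ⊓ V1 S P) ⊔ F = E := by
      refine le_antisymm (sup_le inf_le_left hFE) ?_
      intro e he
      have h3 : e ∈ V1 S P ⊔ zc (S : Subgroup G) := by rw [h.sup_eq]; exact h.E_le_V he
      obtain ⟨v, hv, z, hz, rfl⟩ := exists_mul_of_mem_sup h.cfg.V_comm h.V1_le h.cfg.Z_le_V h3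
      have hzF := h.Z_le hz
      refine mul_mem_sup ⟨?_, hv⟩ hzF
      have := E.mul_mem he (E.inv_mem (hFE hzF))
      rwa [mul_inv_cancel_right] at this
    rw [h2] at h1
    rw [h1, ← inf_relIndex_right F, ← inf_relIndex_right (F ⊓ V1 S P)]
    congr 1
    refine le_antisymm (le_inf (inf_le_left.trans inf_le_left) inf_le_right)
      (le_inf (le_inf inf_le_left (inf_le_right.trans inf_le_right)) inf_le_right)
  rw [e1, e2]
  exact h.lt

/-- **WRF** for `V_P` -/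
theorem wrf {ι : Type v} [Finite ι] [Nontrivial ι] {Vf : ι → Subgroup G}
    (hoff : ∀ A : Subgroup G, A ≤ P → ¬ OffM (zl (S : Subgroup G) P) A)
    (hFF : F ≤ FF) (hFV : zl (S : Subgroup G) P ≤ centralizer (FF : Set G))
    (hFc : FF ≤ centralizer (FF : Set G)) (hF2 : IsPGroup 2 FF)
    (hbad : ¬ zl (S : Subgroup G) P ≤ o2 (centralizer (FF : Set G)))
    (hind : iSupIndep Vf) (hsup : ⨆ i, Vf i = zl (S : Subgroup G) P)
    (hperm : ∀ p ∈ P, ∀ i, ∃ j, cj p (Vf i) = Vf j) (htr : ∀ i j, ∃ p ∈ P, cj p (Vf i) = Vf j) : False :=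
  hbad (WRF.wrf h.cfg.sit hoff h.flat h.lt (fun _ hv hc => h.cv hv hc) hind hsup hperm htr h.WP h.W2 hFV hFc hF2 hFF
    (inf_le_right.trans (h.Z_le.trans hFF)))

/-- **WRF** for `V₁` -/
theorem wrf1 {ι : Type v} [Finite ι] [Nontrivial ι] {Vf : ι → Subgroup G}
    (hoff : ∀ A : Subgroup G, A ≤ P → ¬ OffM (zl (S : Subgroup G) P) A)
    (hFF : F ≤ FF) (hFV : zl (S : Subgroup G) P ≤ centralizer (FF : Set G))
    (hFc : FF ≤ centralizer (FF : Set G)) (hF2 : IsPGroup 2 FF)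
    (hbad : ¬ zl (S : Subgroup G) P ≤ o2 (centralizer (FF : Set G)))
    (hind : iSupIndep Vf) (hsup : ⨆ i, Vf i = V1 S P)
    (hperm : ∀ p ∈ P, ∀ i, ∃ j, cj p (Vf i) = Vf j) (htr : ∀ i j, ∃ p ∈ P, cj p (Vf i) = Vf j) : False := by
  have hFo : FF ≤ o2 (centralizer (FF : Set G)) := le_o2 hFc hF2 (centralizer_le_normalizer _)
  have h1 := WRF.wrf h.sit1 (h.noff1 hoff) h.flat1 h.lt1 (fun _ hv hc => h.cv (h.V1_le hv) hc) hind hsup hperm htr
    h.WP h.W2 (h.V1_le.trans hFV) hFc hF2 (inf_le_left.trans hFF) (inf_le_right.trans (h.Z_le.trans hFF))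
  apply hbad
  rw [← h.sup_eq]
  exact sup_le h1 ((h.Z_le.trans hFF).trans hFo)

end FDat

section hyp

variable {S : Sylow 2 G} {P V F : Subgroup G} (H : Hyp V F)
include H

/-- **WRF** for `V_P`, from THEOREM FLAT -/
theorem wrf_of_hyp (h : Cfg S P) (hoff : ∀ A : Subgroup G, A ≤ P → ¬ OffM (zl (S : Subgroup G) P) A)
    (h0V : zl (S : Subgroup G) P ≤ V) (hWS : WW V F ≤ S)
    (hnot : ¬ zl (S : Subgroup G) P ≤ NOne.Flat.EE V F) {ι : Type v} [Finite ι] [Nontrivial ι]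
    {Vf : ι → Subgroup G} (hind : iSupIndep Vf) (hsup : ⨆ i, Vf i = zl (S : Subgroup G) P)
    (hperm : ∀ p ∈ P, ∀ i, ∃ j, cj p (Vf i) = Vf j) (htr : ∀ i j, ∃ p ∈ P, cj p (Vf i) = Vf j) : False := by
  have hV2 : IsPGroup 2 F := S.isPGroup'.to_le (H.F_le_E.trans (NOne.Flat.Hyp.E_le_W.trans hWS))
  exact (fdat_of_hyp H h h0V hWS hnot).wrf hoff inf_le_right
    (h0V.trans (H.comm.trans (centralizer_le H.F_le_V)))
    (H.F_le_V.trans (H.comm.trans (centralizer_le H.F_le_V))) hV2 (hyp_bad H h0V hnot) hind hsup hperm htr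

/-- **WRF** for `V₁`, from THEOREM FLAT -/
theorem wrf1_of_hyp (h : Cfg S P) (hoff : ∀ A : Subgroup G, A ≤ P → ¬ OffM (zl (S : Subgroup G) P) A)
    (h0V : zl (S : Subgroup G) P ≤ V) (hWS : WW V F ≤ S)
    (hnot : ¬ zl (S : Subgroup G) P ≤ NOne.Flat.EE V F) {ι : Type v} [Finite ι] [Nontrivial ι]
    {Vf : ι → Subgroup G} (hind : iSupIndep Vf) (hsup : ⨆ i, Vf i = V1 S P)
    (hperm : ∀ p ∈ P, ∀ i, ∃ j, cj p (Vf i) = Vf j) (htr : ∀ i j, ∃ p ∈ P, cj p (Vf i) = Vf j) : False := by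
  have hV2 : IsPGroup 2 F := S.isPGroup'.to_le (H.F_le_E.trans (NOne.Flat.Hyp.E_le_W.trans hWS))
  exact (fdat_of_hyp H h h0V hWS hnot).wrf1 hoff inf_le_right
    (h0V.trans (H.comm.trans (centralizer_le H.F_le_V)))
    (H.F_le_V.trans (H.comm.trans (centralizer_le H.F_le_V))) hV2 (hyp_bad H h0V hnot) hind hsup hperm htr

end hyp

end Cfsg.Agent.Omega.NO1.WRF.Irr

end

section


/-!
# THEOREM COMP (bb OMEGA #17539): FLAT for a representation `Rep`

`R : Rep S P V Y M T Mx` (`M` is `V` additively, `Y` the group induced by `P`).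

* `R.ag B : AddSubgroup M`, `R.im X : Subgroup Y` for `B, X ≤ G`; `R.faithfulSMul`;
* `R.flatA` : `FlatM V E F W`, `W ≤ P` imply `FlatA (R.im W) (R.ag E) (R.ag F)`;
* `R.four`, `R.pf`, `R.rk` : the cardinalities of `KFlat`;
* `hyp_pf`, `hyp_nine`, `hyp_index_V1` : (PF), (9), `|V₁ : V₁ ∩ E| = |V_P : V_P ∩ E|` from 970's `Hyp V F`;
* `flatA_of_hyp` : everything for `V₀ ≤ V`, `V₀ ≰ E_F`.
-/

set_option autoImplicit false
set_option linter.unusedSectionVars false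

namespace Cfsg.Agent.Omega.NO1

open Subgroup Cfsg Cfsg.Agent.ZN Cfsg.Agent.Omega.MinPar Cfsg.Agent.Omega.Frame
open Cfsg.Agent.Omega.NO1.WRF (FlatM)
open Cfsg.Agent.Omega.NO1.Comp (FlatA)

universe u

namespace Rep

variable {G Y M : Type u} [Group G] {S P V : Subgroup G} [Group Y] [AddCommGroup M]
  [DistribMulAction Y M] {T : Sylow 2 Y} {Mx : Subgroup Y} (R : Rep S P V Y M T Mx)

theorem el_neg (m : M) : R.el (-m) = (R.el m)⁻¹ := by
  have h := R.add (-m) m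
  rw [neg_add_cancel, R.el_zero] at h
  exact (inv_eq_of_mul_eq_one_left h.symm).symm

theorem el_comm (m n : M) : R.el m * R.el n = R.el n * R.el m := by rw [← R.add, add_comm, R.add]

/-- the subgroup of the module -/
def ag (B : Subgroup G) : AddSubgroup M where
  carrier := {m | R.el m ∈ B}
  zero_mem' := by
    change R.el 0 ∈ B
    rw [R.el_zero]
    exact B.one_mem
  add_mem' := fun {a b} ha hb => by
    change R.el (a + b) ∈ B
    rw [R.add]
    exact B.mul_mem ha hb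
  neg_mem' := fun {a} ha => by
    change R.el (-a) ∈ B
    rw [R.el_neg]
    exact B.inv_mem ha

theorem mem_ag {B : Subgroup G} {m : M} : m ∈ R.ag B ↔ R.el m ∈ B := Iff.rfl

theorem im_isPGroup {X : Subgroup G} (hX : IsPGroup 2 X) : IsPGroup 2 (R.im X) := by
  rintro ⟨_, p, hp, rfl⟩
  obtain ⟨k, hk⟩ := hX ⟨p, hp⟩
  refine ⟨k, Subtype.ext ?_⟩
  have h1 : p ^ 2 ^ k = 1 := Subtype.ext (show (p : G) ^ 2 ^ k = 1 from congrArg Subtype.val hk)
  change R.ac p ^ 2 ^ k = 1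
  rw [← map_pow, h1, map_one]

theorem im_le_T {X : Subgroup G} (hX : X ≤ S) : R.im X ≤ T := by
  rintro _ ⟨p, hp, rfl⟩
  exact (R.mem_T _).2 ⟨p, hX hp, rfl⟩

include R in
theorem faithfulSMul : FaithfulSMul Y M where
  eq_of_smul_eq_smul := by
    intro a b h
    have h1 : b⁻¹ * a = 1 := R.faith _ fun m => by rw [mul_smul, h m, inv_smul_smul]
    exact (inv_mul_eq_one.1 h1).symm

include R in
theorem finite [Finite G] : Finite M := Finite.of_injective R.el R.inj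

include R in
theorem finiteY [Finite G] : Finite Y := Finite.of_surjective R.ac R.acs

/-- `FlatM` to `FlatA` -/
theorem flatA {E F W : Subgroup G} (h : FlatM V E F W) (hWP : W ≤ P) :
    FlatA (R.im W) (R.ag E) (R.ag F) where
  two := R.two
  F_iff v := by
    rw [mem_ag]
    constructor
    · rintro hv _ ⟨p, hp, rfl⟩
      refine R.inj ?_
      rw [R.smul]
      exact h.F_cent hv hp
    · intro hv
      refine h.mem_F (R.mem v) fun s hs => ?_
      have h1 := congrArg R.el (hv _ ⟨⟨s, hWP hs⟩, hs, rfl⟩)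
      rw [R.smul] at h1
      exact h1
  VE := by
    rintro _ ⟨p, hp, rfl⟩ v
    rw [mem_ag, add_comm, R.add, R.smul]
    have h1 := h.VE p hp _ (R.mem v)
    rwa [R.el_inv] at h1
  EF := by
    rintro _ ⟨p, hp, rfl⟩ v hv
    rw [mem_ag, add_comm, R.add, R.smul]
    have h1 := h.EF p hp _ hv
    rwa [R.el_inv] at h1
  reg w hw e he := by
    obtain ⟨s, hs, f, hf, h1⟩ := h.reg (R.el w) (R.mem w) hw (R.el e) he
    obtain ⟨f', rfl⟩ := R.surj f (h.F_le hf)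
    refine ⟨R.ac ⟨s, hWP hs⟩, ⟨⟨s, hWP hs⟩, hs, rfl⟩, ?_⟩
    have h2 : R.el e = R.el (w + R.ac ⟨s, hWP hs⟩ • w + f') := by
      rw [R.add, R.add, R.smul, h1, R.el_inv]
    have h3 := R.inj h2
    have h4 : R.ac ⟨s, hWP hs⟩ • w + w + e = f' := by
      rw [h3, add_comm (R.ac ⟨s, hWP hs⟩ • w) w, ← add_assoc, R.two, zero_add]
    rw [h4]
    exact hf
  ab := by
    rintro _ ⟨p, hp, rfl⟩ _ ⟨q, hq, rfl⟩ v
    refine R.inj ?_
    rw [R.smul, R.smul, R.smul, R.smul]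
    exact h.ab p hp q hq _ (R.mem v)
  inv := by
    rintro _ ⟨p, hp, rfl⟩ v
    refine R.inj ?_
    rw [R.smul, R.smul]
    exact h.inv p hp _ (R.mem v)
  ne := by
    intro hle
    apply h.ne
    intro e he
    obtain ⟨m, rfl⟩ := R.surj e (h.le he)
    exact hle (show m ∈ R.ag E from he)
  ne' := by
    obtain ⟨w, hw, hwE⟩ := SetLike.not_le_iff_exists.1 h.ne'
    obtain ⟨m, rfl⟩ := R.surj w hw
    exact ⟨m, hwE⟩

theorem card_ag {B : Subgroup G} (hB : B ≤ V) : Nat.card (R.ag B) = Nat.card B := by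
  refine Nat.card_congr (Equiv.ofBijective (fun m : R.ag B => (⟨R.el m, m.2⟩ : B)) ⟨?_, ?_⟩)
  · intro a b hab
    exact Subtype.ext (R.inj (congrArg Subtype.val hab))
  · rintro ⟨x, hx⟩
    obtain ⟨m, rfl⟩ := R.surj x (hB hx)
    exact ⟨⟨m, hx⟩, rfl⟩

end Rep

section card

variable {G : Type u} [Group G] [Finite G] {A B : Subgroup G}

theorem card_eq_mul (h : A ≤ B) : Nat.card B = Nat.card A * A.relIndex B := by
  have h1 := relIndex_mul_relIndex ⊥ A B bot_le h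
  rw [relIndex_bot_left, relIndex_bot_left] at h1
  exact h1.symm

end card

namespace Rep

variable {G Y M : Type u} [Group G] [Finite G] {S P V : Subgroup G} [Group Y] [AddCommGroup M]
  [DistribMulAction Y M] {T : Sylow 2 Y} {Mx : Subgroup Y} (R : Rep S P V Y M T Mx) {E F W : Subgroup G}

theorem four (hE : E ≤ V) (h4 : 4 ≤ E.relIndex V) : 4 * Nat.card (R.ag E) ≤ Nat.card M := by
  rw [R.card_ag hE, R.card_M, card_eq_mul hE, mul_comm]
  exact Nat.mul_le_mul_left _ h4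

theorem pf (hE : E ≤ V) (hF : F ≤ E) (h : E.relIndex V ^ 2 ≤ F.relIndex E) :
    Nat.card M ^ 2 * Nat.card (R.ag F) ≤ Nat.card (R.ag E) ^ 3 := by
  rw [R.card_ag hE, R.card_ag (hF.trans hE), R.card_M, card_eq_mul hE]
  have h1 := card_eq_mul hF
  calc (Nat.card E * E.relIndex V) ^ 2 * Nat.card F = Nat.card E ^ 2 * (Nat.card F * E.relIndex V ^ 2) := by ring
    _ ≤ Nat.card E ^ 2 * (Nat.card F * F.relIndex E) := Nat.mul_le_mul_left _ (Nat.mul_le_mul_left _ h)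
    _ = Nat.card E ^ 3 := by rw [← h1]; ring

theorem rk (hE : E ≤ V) (hF : F ≤ E)
    (h : ∀ s ∈ W, (centralizer {s}).relIndex V ≤ F.relIndex E) :
    ∀ u ∈ R.im W, Nat.card {v : M | ∃ w, v = u • w - w} * Nat.card (R.ag F) ≤ Nat.card (R.ag E) := by
  have := R.finite
  rintro _ ⟨p, hp, rfl⟩
  -- the commutator map
  let D : M →+ M :=
    { toFun := fun w => R.ac p • w - w
      map_zero' := by rw [smul_zero, sub_zero]
      map_add' := fun a b => by rw [smul_add]; abel }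
  have h1 : Nat.card {v : M | ∃ w, v = R.ac p • w - w} = Nat.card D.range := by
    refine Nat.card_congr (Equiv.setCongr ?_)
    ext v
    constructor
    · rintro ⟨w, rfl⟩
      exact ⟨w, rfl⟩
    · rintro ⟨w, rfl⟩
      exact ⟨w, rfl⟩
  have h2 : Nat.card M = Nat.card D.ker * Nat.card D.range := by
    rw [← AddSubgroup.card_mul_index D.ker, AddSubgroup.index_ker]
  have h3 : Nat.card D.ker = Nat.card (V ⊓ centralizer {(p : G)} : Subgroup G) := by
    rw [← R.card_ag inf_le_left]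
    refine Nat.card_congr (Equiv.setCongr ?_)
    ext v
    change D v = 0 ↔ R.el v ∈ V ⊓ centralizer {(p : G)}
    constructor
    · intro h4
      have h5 : R.ac p • v = v := sub_eq_zero.1 h4
      have h6 := congrArg R.el h5
      rw [R.smul, mul_inv_eq_iff_eq_mul] at h6
      exact ⟨R.mem v, mem_centralizer_singleton_iff.2 h6.symm⟩
    · rintro ⟨-, h4⟩
      replace h4 := mem_centralizer_singleton_iff.1 h4
      refine sub_eq_zero.2 (R.inj ?_)
      rw [R.smul, ← h4, mul_inv_cancel_right]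
  have h4 := card_eq_mul (A := V ⊓ centralizer {(p : G)}) (B := V) inf_le_left
  rw [inf_relIndex_left, ← R.card_M, h2, ← h3] at h4
  have h5 : 0 < Nat.card D.ker := Nat.card_pos
  have h6 := Nat.eq_of_mul_eq_mul_left h5 h4
  rw [h1, h6, R.card_ag hE, R.card_ag (hF.trans hE), card_eq_mul hF, mul_comm]
  exact Nat.mul_le_mul_left _ (h p hp)

end Rep

namespace WRF.Irr

open Cfsg.Agent.Omega.NOne.Flat (Hyp WW)

variable {G : Type u} [Group G] [Finite G] {S : Sylow 2 G} {P V F V₀ : Subgroup G} (H : Hyp V F)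
include H

theorem hyp_relIndex (h0V : V₀ ≤ V) (hn : WW V F ≤ normalizer (V₀ : Set G)) (hnot : ¬ V₀ ≤ NOne.Flat.EE V F) :
    (V₀ ⊓ F).relIndex (V₀ ⊓ NOne.Flat.EE V F) = F.relIndex (NOne.Flat.EE V F) := by
  have h3 : (V₀ ⊓ NOne.Flat.EE V F) ⊔ F = NOne.Flat.EE V F :=
    le_antisymm (sup_le inf_le_right H.F_lt_E.le) (hyp_EE_le H h0V hn hnot)
  have h4 : V₀ ⊓ NOne.Flat.EE V F ≤ normalizer (F : Set G) :=
    ((inf_le_left.trans h0V).trans (H.comm.trans (centralizer_le H.F_le_V))).trans (centralizer_le_normalizer _)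
  have h5 := relIndex_sup_of_norm h4
  rw [h3] at h5
  rw [h5, ← inf_relIndex_right F, ← inf_relIndex_right (V₀ ⊓ F)]
  congr 1
  refine le_antisymm (le_inf (inf_le_left.trans inf_le_right) inf_le_right)
    (le_inf (le_inf (inf_le_right.trans inf_le_left) inf_le_left) inf_le_right)

theorem hyp_index_le (h0V : V₀ ≤ V) : (V₀ ⊓ NOne.Flat.EE V F).relIndex V₀ ≤ (NOne.Flat.EE V F).relIndex V := by
  rw [inf_relIndex_left]
  exact relIndex_le_of_le_right h0V Subgroup.index_ne_zero_of_finite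

/-- **(PF)** for `V₀` -/
theorem hyp_pf (h0V : V₀ ≤ V) (hn : WW V F ≤ normalizer (V₀ : Set G)) (hnot : ¬ V₀ ≤ NOne.Flat.EE V F) :
    (V₀ ⊓ NOne.Flat.EE V F).relIndex V₀ ^ 2 ≤ (V₀ ⊓ F).relIndex (V₀ ⊓ NOne.Flat.EE V F) := by
  rw [hyp_relIndex H h0V hn hnot]
  exact (Nat.pow_le_pow_left (hyp_index_le H h0V) 2).trans H.sq_le

/-- **(9)** for `V₀` -/
theorem hyp_nine (h0V : V₀ ≤ V) (hn : WW V F ≤ normalizer (V₀ : Set G)) (hnot : ¬ V₀ ≤ NOne.Flat.EE V F)
    {s : G} (hs : s ∈ WW V F) :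
    (centralizer {s}).relIndex V₀ ≤ (V₀ ⊓ F).relIndex (V₀ ⊓ NOne.Flat.EE V F) := by
  by_cases hsN : s ∈ NOne.Flat.NN V F
  · have h1 : V₀ ⊓ NOne.Flat.EE V F ≤ centralizer {s} := by
      intro e he
      rw [mem_centralizer_singleton_iff]
      exact mem_centralizer_iff.1 (mem_inf.1 hsN).2 e he.2
    exact (relIndex_le_of_le_left h1 Subgroup.index_ne_zero_of_finite).trans (hyp_lt H h0V hn hnot).le
  · rw [hyp_relIndex H h0V hn hnot]
    exact (relIndex_le_of_le_right h0V Subgroup.index_ne_zero_of_finite).trans (H.relIndex_cent_le hs hsN)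

/-- `|V₁ : V₁ ∩ E| = |V_P : V_P ∩ E|` -/
theorem hyp_index_V1 (h : Cfg S P) (h0V : zl (S : Subgroup G) P ≤ V) (hWS : WW V F ≤ S)
    (hnot : ¬ zl (S : Subgroup G) P ≤ NOne.Flat.EE V F) :
    (V1 S P ⊓ NOne.Flat.EE V F).relIndex (V1 S P) =
      (zl (S : Subgroup G) P ⊓ NOne.Flat.EE V F).relIndex (zl (S : Subgroup G) P) := by
  have hd := fdat_of_hyp H h h0V hWS hnot
  have h1 : V1 S P ⊔ (zl (S : Subgroup G) P ⊓ NOne.Flat.EE V F) = zl (S : Subgroup G) P := by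
    refine le_antisymm (sup_le hd.V1_le inf_le_left) ?_
    conv_lhs => rw [← hd.sup_eq]
    exact sup_le_sup_left (hd.Z_le.trans (inf_le_inf_left _ H.F_lt_E.le)) _
  have h2 : V1 S P ≤ normalizer ((zl (S : Subgroup G) P ⊓ NOne.Flat.EE V F : Subgroup G) : Set G) :=
    (hd.V1_le.trans (h.V_comm.trans (centralizer_le inf_le_left))).trans (centralizer_le_normalizer _)
  have h3 := relIndex_sup_of_norm h2
  rw [h1] at h3
  have e : V1 S P ⊓ (zl (S : Subgroup G) P ⊓ NOne.Flat.EE V F) = V1 S P ⊓ NOne.Flat.EE V F := by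
    rw [← inf_assoc, inf_eq_left.2 hd.V1_le]
  rw [h3, ← inf_relIndex_left (V1 S P) (zl (S : Subgroup G) P ⊓ NOne.Flat.EE V F), e]

theorem hyp_not_V1 (h : Cfg S P) (h0V : zl (S : Subgroup G) P ≤ V) (hWS : WW V F ≤ S)
    (hnot : ¬ zl (S : Subgroup G) P ≤ NOne.Flat.EE V F) : ¬ V1 S P ≤ NOne.Flat.EE V F := by
  intro hle
  apply hnot
  have hd := fdat_of_hyp H h h0V hWS hnot
  rw [← hd.sup_eq]
  exact sup_le hle ((hd.Z_le.trans inf_le_right).trans H.F_lt_E.le)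

variable {Y M : Type u} [Group Y] [AddCommGroup M] [DistribMulAction Y M] {T : Sylow 2 Y} {Mx : Subgroup Y}

/-- FLAT for a representation of `V₀` -/
theorem rep_flat (R : Rep (S : Subgroup G) P V₀ Y M T Mx) (hWP : WW V F ≤ P) (h0V : V₀ ≤ V)
    (hn : WW V F ≤ normalizer (V₀ : Set G)) (hnot : ¬ V₀ ≤ NOne.Flat.EE V F)
    (h4 : 4 ≤ (V₀ ⊓ NOne.Flat.EE V F).relIndex V₀) :
    FlatA (R.im (WW V F)) (R.ag (V₀ ⊓ NOne.Flat.EE V F)) (R.ag (V₀ ⊓ F)) ∧
      4 * Nat.card (R.ag (V₀ ⊓ NOne.Flat.EE V F)) ≤ Nat.card M ∧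
      Nat.card M ^ 2 * Nat.card (R.ag (V₀ ⊓ F)) ≤ Nat.card (R.ag (V₀ ⊓ NOne.Flat.EE V F)) ^ 3 ∧
      ∀ u ∈ R.im (WW V F), Nat.card {v : M | ∃ w, v = u • w - w} * Nat.card (R.ag (V₀ ⊓ F)) ≤
        Nat.card (R.ag (V₀ ⊓ NOne.Flat.EE V F)) :=
  ⟨R.flatA (flat_of_hyp H h0V hn hnot) hWP, R.four inf_le_left h4,
    R.pf inf_le_left (inf_le_inf_left _ H.F_lt_E.le) (hyp_pf H h0V hn hnot),
    R.rk inf_le_left (inf_le_inf_left _ H.F_lt_E.le) fun _ hs => hyp_nine H h0V hn hnot hs⟩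

/-- **(1)** : `U` centralises the normal subgroups of odd order -/
theorem rep_odd (R : Rep (S : Subgroup G) P V₀ Y M T Mx) (hWP : WW V F ≤ P) (h0V : V₀ ≤ V)
    (hn : WW V F ≤ normalizer (V₀ : Set G)) (hnot : ¬ V₀ ≤ NOne.Flat.EE V F)
    (h4 : 4 ≤ (V₀ ⊓ NOne.Flat.EE V F).relIndex V₀) {O : Subgroup Y} (hO : Odd (Nat.card O))
    (hOn : ∀ u ∈ R.im (WW V F), ∀ x ∈ O, u * x * u⁻¹ ∈ O) : R.im (WW V F) ≤ centralizer (O : Set Y) := by
  have := R.finite
  have := R.finiteY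
  have := R.faithfulSMul
  obtain ⟨h1, h2, -, -⟩ := rep_flat H R hWP h0V hn hnot h4
  exact Subgroup.le_centralizer_iff.mp (h1.odd_comm (Comp.four_of_card h2) hO hOn)

end WRF.Irr

end Cfsg.Agent.Omega.NO1

end
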